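import Groth.Agent.HypSq.K980.KunLin

/-!
# Dimensions in the Künneth formula over a field
-/

set_option autoImplicit false
universe u
open CategoryTheory CategoryTheory.Limits AlgebraicGeometry Groth.Agent
open scoped TensorProduct

namespace K711.KunFin

open Groth.Agent.Ega3B.KunnethGeo K980.KunLin

theorem finrank_aux (k : Type u) [Field k] {V : Type u} [AddCommGroup V] [Module k V] (n : ℕ) (M N : ℕ → Type u)
    [∀ p, AddCommGroup (M p)] [∀ p, Module k (M p)] [∀ p, AddCommGroup (N p)] [∀ p, Module k (N p)]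
    [∀ p, Module.Finite k (M p)] [∀ p, Module.Finite k (N p)]
    (e : V ≃ₗ[k] DirectSum (Finset.antidiagonal n) fun pq => M pq.1.1 ⊗[k] N pq.1.2) :
    Module.finrank k V = ∑ pq ∈ Finset.antidiagonal n, Module.finrank k (M pq.1) * Module.finrank k (N pq.2) := by
  rw [e.finrank_eq, Module.finrank_directSum]
  simp only [Module.finrank_tensorProduct]
  exact Finset.sum_coe_sort (Finset.antidiagonal n) (fun pq => Module.finrank k (M pq.1) * Module.finrank k (N pq.2))

theorem sum_aux (n : ℕ) (a b : ℕ → ℕ) : (∑ i : Finset.antidiagonal n, a i.1.1 * b i.1.2) =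
    ∑ pq ∈ Finset.antidiagonal n, a pq.1 * b pq.2 :=
  Finset.sum_coe_sort (Finset.antidiagonal n) (fun pq => a pq.1 * b pq.2)

/-- the structure of a scheme over `Spec k` on the product -/
@[reducible] noncomputable def ov (k : Type u) [Field k] (X Y : Scheme.{u}) [X.Over (Spec (CommRingCat.of k))]
    [Y.Over (Spec (CommRingCat.of k))] :
    (pullback (X ↘ Spec (CommRingCat.of k)) (Y ↘ Spec (CommRingCat.of k))).Over (Spec (CommRingCat.of k)) :=
  ⟨pullback.fst (X ↘ Spec (CommRingCat.of k)) (Y ↘ Spec (CommRingCat.of k)) ≫ (X ↘ Spec (CommRingCat.of k))⟩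

theorem finrank_kunneth (k : Type u) [Field k] (X Y : Scheme.{u}) [X.Over (Spec (CommRingCat.of k))]
    [Y.Over (Spec (CommRingCat.of k))] [CompactSpace X] [CompactSpace Y]
    [IsAffineHom (pullback.diagonal (X ↘ (Spec (CommRingCat.of k))))]
    [IsAffineHom (pullback.diagonal (Y ↘ (Spec (CommRingCat.of k))))]
    (F : X.Modules) (hF : Coh.IsQCoh F) (G : Y.Modules) (hG : Coh.IsQCoh G) (n : ℕ)
    [∀ p, Module.Finite k (Coh.HH X F p)] [∀ q, Module.Finite k (Coh.HH Y G q)] :
    letI := ov k X Y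
    Module.finrank k (Coh.HH (pullback (X ↘ Spec (CommRingCat.of k)) (Y ↘ Spec (CommRingCat.of k)))
        (GG (X ↘ Spec (CommRingCat.of k)) (Y ↘ Spec (CommRingCat.of k)) F G) n) =
      ∑ pq ∈ Finset.antidiagonal n, Module.finrank k (Coh.HH X F pq.1) * Module.finrank k (Coh.HH Y G pq.2) := by
  obtain ⟨m₁, U₁, hcov₁, hU₁⟩ := exists_cover_of_diagonal (X ↘ (Spec (CommRingCat.of k)))
  obtain ⟨m₂, U₂, hcov₂, hU₂⟩ := exists_cover_of_diagonal (Y ↘ (Spec (CommRingCat.of k)))
  obtain ⟨e⟩ := kunneth_of_cover_lin k X Y F hF G hG (flat_over_field _ F) (fun p => inferInstance) U₁ U₂ hcov₁ hcov₂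
    hU₁ hU₂ n
  let _ := ov k X Y
  refine e.finrank_eq.trans ?_
  rw [Module.finrank_directSum]
  simp only [Module.finrank_tensorProduct]
  exact sum_aux n (fun p => Module.finrank k (Coh.HH X F p)) (fun q => Module.finrank k (Coh.HH Y G q))

end K711.KunFin
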