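import Groth.Agent.IntTh.K711.IntCyc
import Groth.Agent.Fga.EulerLEAdd
import Groth.Agent.IntTh.K711.KunFin

/-!
# Euler characteristics and intersection numbers on products
-/

set_option autoImplicit false
universe u
open CategoryTheory CategoryTheory.Limits AlgebraicGeometry Groth.Agent
open Groth.Agent.Fga.PicMon Groth.Agent.Fga.HodgeCore Groth.Agent.Fga.AltSum
open scoped TensorProduct

namespace K711.KunChi

/-- Cauchy products of finite sequences -/
theorem sum_cauchy (a b : ℕ → ℤ) (s t : ℕ) (ha : ∀ i, s < i → a i = 0) (hb : ∀ i, t < i → b i = 0) :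
    ∑ n ∈ Finset.range (s + t + 1), ∑ p ∈ Finset.range (n + 1), a p * b (n - p) =
      (∑ p ∈ Finset.range (s + 1), a p) * ∑ q ∈ Finset.range (t + 1), b q := by
  let A : Polynomial ℤ := ∑ i ∈ Finset.range (s + 1), Polynomial.monomial i (a i)
  let B : Polynomial ℤ := ∑ i ∈ Finset.range (t + 1), Polynomial.monomial i (b i)
  have hA : ∀ i, A.coeff i = a i := by
    intro i
    simp only [A, Polynomial.finsetSum_coeff, Polynomial.coeff_monomial]
    rw [Finset.sum_ite_eq']
    split_ifs with h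
    · rfl
    · rw [ha]
      rw [Finset.mem_range] at h
      omega
  have hB : ∀ i, B.coeff i = b i := by
    intro i
    simp only [B, Polynomial.finsetSum_coeff, Polynomial.coeff_monomial]
    rw [Finset.sum_ite_eq']
    split_ifs with h
    · rfl
    · rw [hb]
      rw [Finset.mem_range] at h
      omega
  have hAd : A.natDegree ≤ s := Polynomial.natDegree_le_iff_coeff_eq_zero.2 fun i hi => by rw [hA, ha i hi]
  have hBd : B.natDegree ≤ t := Polynomial.natDegree_le_iff_coeff_eq_zero.2 fun i hi => by rw [hB, hb i hi]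
  have h1 : (A * B).eval 1 = A.eval 1 * B.eval 1 := Polynomial.eval_mul
  rw [Polynomial.eval_eq_sum_range' (n := s + t + 1) (by
        have := Polynomial.natDegree_mul_le (p := A) (q := B); omega) 1,
    Polynomial.eval_eq_sum_range' (n := s + 1) (by omega) 1,
    Polynomial.eval_eq_sum_range' (n := t + 1) (by omega) 1] at h1
  simp only [one_pow, mul_one, hA, hB] at h1
  rw [← h1]
  refine Finset.sum_congr rfl fun n _ => ?_
  rw [Polynomial.coeff_mul, Finset.Nat.sum_antidiagonal_eq_sum_range_succ_mk]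
  simp only [hA, hB]

variable {k : Type u} [Field k] {X Y : Scheme.{u}} [X.Over (Spec (CommRingCat.of k))]
  [Y.Over (Spec (CommRingCat.of k))] [IsProper (X ↘ Spec (CommRingCat.of k))]
  [IsProper (Y ↘ Spec (CommRingCat.of k))]

/-- The Euler characteristic of an exterior product -/
theorem chi_kunneth (dX dY : ℕ) (hX : topologicalKrullDim X ≤ dX) (hY : topologicalKrullDim Y ≤ dY)
    {F : X.Modules} (hF : Coh.IsCoh F) {G : Y.Modules} (hG : Coh.IsCoh G) :
    letI : (pullback (X ↘ (Spec (CommRingCat.of k))) (Y ↘ (Spec (CommRingCat.of k)))).Over (Spec (CommRingCat.of k)) :=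
      ⟨pullback.fst (X ↘ (Spec (CommRingCat.of k))) (Y ↘ (Spec (CommRingCat.of k))) ≫ (X ↘ (Spec (CommRingCat.of k)))⟩
    FGA.eulerCharLE k (pullback (X ↘ (Spec (CommRingCat.of k))) (Y ↘ (Spec (CommRingCat.of k))))
      (CohB1.tensorMod ((Scheme.Modules.pullback (pullback.fst (X ↘ (Spec (CommRingCat.of k))) (Y ↘ (Spec (CommRingCat.of k))))).obj F)
        ((Scheme.Modules.pullback (pullback.snd (X ↘ (Spec (CommRingCat.of k))) (Y ↘ (Spec (CommRingCat.of k))))).obj G)) (dX + dY) =
      FGA.eulerCharLE k X F dX * FGA.eulerCharLE k Y G dY := by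
  let iO : (pullback (X ↘ (Spec (CommRingCat.of k))) (Y ↘ (Spec (CommRingCat.of k)))).Over (Spec (CommRingCat.of k)) :=
      ⟨pullback.fst (X ↘ (Spec (CommRingCat.of k))) (Y ↘ (Spec (CommRingCat.of k))) ≫ (X ↘ (Spec (CommRingCat.of k)))⟩
  have nX := Fga.IntAdd.isNoetherian k X
  have nY := Fga.IntAdd.isNoetherian k Y
  have fX : ∀ i, Module.Finite k (Coh.HH X F i) := fun i => S0002.result k X F hF i
  have fY : ∀ i, Module.Finite k (Coh.HH Y G i) := fun i => S0002.result k Y G hG i
  have vX : ∀ i, dX < i → (Module.finrank k (Coh.HH X F i) : ℤ) = 0 := fun i hi => by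
    have := Fga.EulerLEAdd.subsingleton_HH X dX hX F i hi
    rw [Module.finrank_zero_of_subsingleton]; rfl
  have vY : ∀ i, dY < i → (Module.finrank k (Coh.HH Y G i) : ℤ) = 0 := fun i hi => by
    have := Fga.EulerLEAdd.subsingleton_HH Y dY hY G i hi
    rw [Module.finrank_zero_of_subsingleton]; rfl
  have key : ∀ n : ℕ, (-1 : ℤ) ^ n * (Module.finrank k (Coh.HH (pullback (X ↘ (Spec (CommRingCat.of k))) (Y ↘ (Spec (CommRingCat.of k))))
      (CohB1.tensorMod ((Scheme.Modules.pullback (pullback.fst (X ↘ (Spec (CommRingCat.of k))) (Y ↘ (Spec (CommRingCat.of k))))).obj F)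
        ((Scheme.Modules.pullback (pullback.snd (X ↘ (Spec (CommRingCat.of k))) (Y ↘ (Spec (CommRingCat.of k))))).obj G)) n) : ℤ) =
      ∑ p ∈ Finset.range (n + 1), ((-1 : ℤ) ^ p * (Module.finrank k (Coh.HH X F p) : ℤ)) *
        ((-1 : ℤ) ^ (n - p) * (Module.finrank k (Coh.HH Y G (n - p)) : ℤ)) := by
    intro n
    have hcX : CompactSpace X := inferInstance
    have hcY : CompactSpace Y := inferInstance
    have h0 := KunFin.finrank_kunneth k X Y F hF.1 G hG.1 n
    refine (congrArg (fun t : ℕ => (-1 : ℤ) ^ n * (t : ℤ)) h0).trans ?_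
    rw [Finset.Nat.sum_antidiagonal_eq_sum_range_succ_mk]
    push_cast
    rw [Finset.mul_sum]
    refine Finset.sum_congr rfl fun p hp => ?_
    have h : (-1 : ℤ) ^ n = (-1 : ℤ) ^ p * (-1 : ℤ) ^ (n - p) := by
      rw [← pow_add]
      congr 1
      have := Finset.mem_range.1 hp
      omega
    rw [h]
    ring
  unfold FGA.eulerCharLE
  rw [Finset.sum_congr rfl fun n _ => key n]
  refine sum_cauchy (fun i => (-1 : ℤ) ^ i * (Module.finrank k (Coh.HH X F i) : ℤ))
    (fun i => (-1 : ℤ) ^ i * (Module.finrank k (Coh.HH Y G i) : ℤ)) dX dY (fun i hi => ?_) (fun i hi => ?_)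
  · simp only [vX i hi, mul_zero]
  · simp only [vY i hi, mul_zero]

end K711.KunChi
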