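import Groth.Agent.Sga5.ProjConn
import Groth.Agent.CycA.ProdDim
import Groth.Agent.Sga5.ProjReg
import Mathlib.RingTheory.KrullDimension.Polynomial

/-!
# Projective space over a field is integral of dimension `n`

(a light copy of the corresponding facts of `Sga4B.P1Rel`)
-/

set_option autoImplicit false

universe u

open CategoryTheory CategoryTheory.Limits AlgebraicGeometry Opposite MvPolynomial

namespace K711.ProjDim

open Groth.Agent.Sga5.ProjChart Groth.Agent.Sga5.ProjSmooth Groth.Agent.Sga5.ProjConn

variable (n : ℕ) (R : Type u) [CommRing R] [IsDomain R]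

theorem isPreirreducible_range_chart (i : Fin (n + 1)) :
    IsPreirreducible (Set.range (chart n R i) : Set (CohB1.ProjSpace n R)) := by
  have : IrreducibleSpace (Spec (CommRingCat.of (MvPolynomial (Fin n) R))) :=
    inferInstanceAs (IrreducibleSpace (PrimeSpectrum (MvPolynomial (Fin n) R)))
  rw [← Set.image_univ]
  exact (PreirreducibleSpace.isPreirreducible_univ).image _ (chart n R i).continuous.continuousOn

theorem irreducibleSpace_projSpace : IrreducibleSpace (CohB1.ProjSpace n R) := by
  have h : IsPreirreducible (Set.univ : Set (CohB1.ProjSpace n R)) := by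
    rintro U V hU hV ⟨x, -, hx⟩ ⟨y, -, hy⟩
    obtain ⟨i, hi⟩ := exists_mem_chart n R x
    obtain ⟨j, hj⟩ := exists_mem_chart n R y
    have hopen : ∀ i, IsOpen (Set.range (chart n R i) : Set (CohB1.ProjSpace n R)) :=
      fun i => (chart n R i).opensRange.isOpen
    obtain ⟨z, hz, hz1, hz2⟩ := isPreirreducible_range_chart n R i U _ hU (hopen j) ⟨x, hi, hx⟩
      ⟨genPt n R, genPt_mem n R i, genPt_mem n R j⟩
    obtain ⟨w, -, hw⟩ := isPreirreducible_range_chart n R j U V hU hV ⟨z, hz2, hz1⟩ ⟨y, hj, hy⟩
    exact ⟨w, trivial, hw⟩
  exact { isPreirreducible_univ := h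
          toNonempty := ⟨genPt n R⟩ }

theorem isReduced_projSpace : IsReduced (CohB1.ProjSpace n R) := by
  have : ∀ x : CohB1.ProjSpace n R, _root_.IsReduced ((CohB1.ProjSpace n R).presheaf.stalk x) := by
    intro x
    obtain ⟨i, y, rfl⟩ := exists_mem_chart n R x
    have h0 : _root_.IsReduced (CommRingCat.of (MvPolynomial (Fin n) R)) :=
      inferInstanceAs (_root_.IsReduced (MvPolynomial (Fin n) R))
    have h1 : IsReduced (Spec (CommRingCat.of (MvPolynomial (Fin n) R))) := inferInstance
    exact isReduced_of_injective _
      (asIso ((chart n R i).stalkMap y)).commRingCatIsoToRingEquiv.injective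
  exact isReduced_of_isReduced_stalk _

/-- Projective space over a domain is integral. -/
theorem isIntegral_projSpace : IsIntegral (CohB1.ProjSpace n R) :=
  have := irreducibleSpace_projSpace n R
  have := isReduced_projSpace n R
  isIntegral_of_irreducibleSpace_of_isReduced _

theorem topologicalKrullDim_projSpace (n : ℕ) (K : Type u) [Field K] :
    topologicalKrullDim (CohB1.ProjSpace n K) = n := by
  have := isIntegral_projSpace n K
  have h := Groth.Agent.CycA.ProdDim.dim_of_isOpenImmersion (CohB1.ProjSpace.toSpec n K) (chart n K 0)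
  have h1 : topologicalKrullDim (Spec (CommRingCat.of (MvPolynomial (Fin n) K))) = n := by
    have h2 := PrimeSpectrum.topologicalKrullDim_eq_ringKrullDim (R := MvPolynomial (Fin n) K)
    refine h2.trans ?_
    simp [MvPolynomial.ringKrullDim_of_isNoetherianRing]
  exact h.symm.trans h1

end K711.ProjDim
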