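import Groth.Agent.IntTh.K711.NumInt
import Groth.Agent.IntTh.K711.ProjDim
import Groth.Agent.VarietyB.EulerBinom
import Groth.Agent.Sga67.TwistProj

/-!
# Classes of twists on projective space, `χ` and intersection numbers
-/

set_option autoImplicit false
universe u
open CategoryTheory CategoryTheory.Limits AlgebraicGeometry
open Groth.Agent.Fga.PicMon Groth.Agent.Fga.HodgeCore Groth.Agent.Fga.AltSum Groth.Agent

namespace K711.TwistCls

variable (n : ℕ) (A : Type u) [CommRing A]

theorem mc_mul (i j : ℤ) : mc (Twist.twistProjSpace n A i) * mc (Twist.twistProjSpace n A j) =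
    mc (Twist.twistProjSpace n A (i + j)) := by
  rw [← mc_tensor]
  exact (mc_eq_iff _ _).2 (Sga67.TwistProj.nonempty_mul n A i j)

theorem mc_zero : mc (Twist.twistProjSpace n A 0) = 1 := by
  rw [← mc_one]
  obtain ⟨e⟩ := Ega2.TwistInv.nonempty_unit_iso (CohB1.polyGrading n A)
  exact (mc_eq_iff _ _).2 ⟨e.symm⟩

theorem mc_pow (i : ℤ) (e : ℕ) : mc (Twist.twistProjSpace n A i) ^ e =
    mc (Twist.twistProjSpace n A (e * i)) := by
  induction e with
  | zero => rw [pow_zero, Nat.cast_zero, zero_mul, mc_zero]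
  | succ e ih => rw [pow_succ, ih, mc_mul]; congr 2; push_cast; ring

theorem isInvertible_twist (i : ℤ) : PicF.IsInvertible (Twist.twistProjSpace n A i) :=
  Ega3B.ProjFrame.isInvertible_twistProjSpace n A i

variable (k : Type u) [Field k]

open Groth.Agent.VarietyB.EulerBinom in
theorem chi_twist (t : ℤ) :
    FGA.eulerCharLE k (CohB1.ProjSpace n k) (Twist.twistProjSpace n k t) n = c n t := by
  rw [eulerCharLE_eq k n (CycB.DegCurve.isCoh_of_isInvertible (isInvertible_twist n k t)), euler_twist]

open Groth.Agent.VarietyB.EulerBinom in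
theorem c_zero : c n 0 = 1 := by
  unfold c N
  rw [if_pos le_rfl]
  have h : {m : Fin (n + 1) →₀ ℕ | m.degree = Int.toNat 0} = {0} := by
    ext m
    simp [Finsupp.degree_eq_zero_iff]
  rw [h]
  simp

open Groth.Agent.VarietyB.EulerBinom in
theorem c_neg {j : ℕ} (h1 : 0 < j) (h2 : j ≤ n) : c n (-(j : ℤ)) = 0 := by
  unfold c
  rw [if_neg (by omega), if_neg (by omega)]

theorem intNum_neg_one :
    FGA.intNum k (CohB1.ProjSpace n k) n (fun _ : Fin n => Twist.twistProjSpace n k (-1))
      (Coh.structureModule (CohB1.ProjSpace n k)) = 1 := by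
  rw [intNum_eq_dSum]
  unfold dSum
  rw [Finset.sum_eq_single (∅ : Finset (Fin n))]
  · rw [Finset.card_empty, pow_zero, one_mul, Finset.prod_empty, chiCl_one, ← c_zero n, ← chi_twist n k 0]
    obtain ⟨e⟩ := Ega2.TwistInv.nonempty_unit_iso (CohB1.polyGrading n k)
    exact euler_iso k _ e n
  · intro I _ hI
    rw [Finset.prod_const, mc_pow, chiCl_mc]
    have h1 : 0 < I.card := Finset.card_pos.2 (Finset.nonempty_iff_ne_empty.2 hI)
    have h2 : I.card ≤ n := (Finset.card_le_univ I).trans (by simp)
    rw [euler_iso k _ (Ega2.Tens.runit _) n, chi_twist, mul_neg_one, c_neg n h1 h2, mul_zero]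
  · intro h; exact absurd (Finset.mem_univ _) h

end K711.TwistCls
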