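import Groth.Agent.IntTh.K711.FinRatCpt

/-!
# Rational equivalence and stratifications by locally closed pieces with trivial Chow groups
-/

set_option autoImplicit false
universe u

open CategoryTheory AlgebraicGeometry TopologicalSpace

namespace K711.Strata

open Groth.Agent.CycB Groth.Agent.CycB.FinRat K711.FinRatCpt

variable {X : Scheme.{u}} {δ : X → ℤ}

theorem divFun_ne_zero {ξ : X} {f : X.residueField ξ} {x : X} (h : Cyc.divFun δ ξ f x ≠ 0) :
    ξ ⤳ x ∧ δ x + 1 = δ ξ := by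
  by_contra hne
  apply h
  unfold Cyc.divFun
  rw [dif_neg hne]

/-- functions equivalent to a finitely supported function on the set `S` -/
def spanOf (δ : X → ℤ) (S : Set X) (k : ℤ) : AddSubgroup (X → ℤ) where
  carrier := {c | ∃ b : X → ℤ, (Function.support b).Finite ∧ (∀ x, b x ≠ 0 → x ∈ S ∧ δ x = k) ∧
    c - b ∈ finRat δ k}
  add_mem' := by
    rintro a c ⟨b, h1, h2, h3⟩ ⟨b', h1', h2', h3'⟩
    refine ⟨b + b', (h1.union h1').subset (Function.support_add _ _), fun x hx => ?_, ?_⟩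
    · by_cases h : b x = 0
      · refine h2' x fun h' => hx ?_
        rw [Pi.add_apply, h, h', add_zero]
      · exact h2 x h
    · rw [add_sub_add_comm]
      exact AddSubgroup.add_mem _ h3 h3'
  zero_mem' := ⟨0, by simp, fun x hx => absurd rfl hx, by rw [sub_zero]; exact AddSubgroup.zero_mem _⟩
  neg_mem' := by
    rintro a ⟨b, h1, h2, h3⟩
    refine ⟨-b, by rwa [Function.support_neg], fun x hx => h2 x fun h => hx (by rw [Pi.neg_apply, h, neg_zero]),
      ?_⟩
    rw [neg_sub_neg, ← neg_sub]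
    exact AddSubgroup.neg_mem _ h3

theorem pt_mem_spanOf {S : Set X} {w : X} (hw : w ∈ S) : pt w ∈ spanOf δ S (δ w) := by
  classical
  refine ⟨pt w, (Set.finite_singleton w).subset fun x hx => ?_, fun x hx => ?_, ?_⟩
  · by_contra h
    exact hx (pt_of_ne h)
  · have : x = w := by
      by_contra h
      exact hx (pt_of_ne h)
    subst this
    exact ⟨hw, rfl⟩
  · rw [sub_self]
    exact AddSubgroup.zero_mem _

theorem finRat_le_spanOf (S : Set X) (k : ℤ) : finRat δ k ≤ spanOf δ S k := fun c hc =>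
  ⟨0, by simp, fun x hx => absurd rfl hx, by rwa [sub_zero]⟩

theorem mem_of_support_finite {S : Set X} {k : ℤ} {c : X → ℤ} (hc : (Function.support c).Finite)
    (h : ∀ x, c x ≠ 0 → δ x = k ∧ pt x ∈ spanOf δ S (δ x)) : c ∈ spanOf δ S k := by
  rw [eq_sum_pt c hc.toFinset (by simp)]
  refine AddSubgroup.sum_mem _ fun w hw => AddSubgroup.zsmul_mem _ ?_ _
  have hw' : c w ≠ 0 := by simpa using hw
  obtain ⟨h1, h2⟩ := h w hw'
  rwa [h1] at h2

section

variable [CompactSpace X] [IsLocallyNoetherian X] (hδ : Cyc.IsDimFun X δ)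

include hδ in
/-- One step: a non-generic point of a locally closed piece with trivial non-generic points. -/
theorem pt_mem_of_piece {S : Set X} {V : Scheme.{u}} (e : V ⟶ X) [IsPreimmersion e]
    (hlc : IsLocallyClosed (Set.range ⇑e)) (hRT : RT V) {v v₀ : V} (hv : v₀ ⤳ v) (hne : v₀ ≠ v)
    (h : ∀ x ∈ closure (Set.range ⇑e) \ Set.range ⇑e, pt x ∈ spanOf δ S (δ x)) :
    pt (e v) ∈ spanOf δ S (δ (e v)) := by
  classical
  have hconv : ∀ (x y : V) (z : X), e x ⤳ z → z ⤳ e y → z ∈ Set.range ⇑e := by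
    obtain ⟨O, C, hO, hC, hOC⟩ := hlc
    intro x y z h1 h2
    have hx : e x ∈ O ∩ C := hOC ▸ ⟨x, rfl⟩
    have hy : e y ∈ O ∩ C := hOC ▸ ⟨y, rfl⟩
    rw [hOC]
    exact ⟨h2.mem_open hO hy.1, h1.mem_closed hC hx.2⟩
  have hδV := isDimFun_comp e hδ hconv
  have h1 := hRT _ hδV v ⟨v₀, hv, hne⟩
  obtain ⟨ι, hι, ξ, g, e1, e2, e3⟩ := exists_family_of_mem e δ h1
  have := Fintype.ofFinite ι
  set D : X → ℤ := ∑ j, Cyc.divFun δ (e (ξ j)) (g j) with hD
  have hDm : D ∈ finRat δ (δ (e v)) := AddSubgroup.sum_mem _ fun j _ => divFun_mem δ (e1 j) (e2 j)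
  have hDV : ∀ x : V, D (e x) = pt v x := by
    intro x
    rw [← e3 x, finsum_eq_sum_of_fintype, hD, Finset.sum_apply]
  have hptV : ∀ x : V, pt (e v) (e x) = pt v x := by
    intro x
    by_cases hx : x = v
    · subst hx
      rw [pt_self, pt_self]
    · rw [pt_of_ne hx, pt_of_ne fun h => hx (e.isEmbedding.injective h)]
  have hkey : pt (e v) - D ∈ spanOf δ S (δ (e v)) := by
    refine mem_of_support_finite ?_ fun x hx => ?_
    · refine ((Set.finite_singleton (e v)).union (LineRT.finite_support_of_mem hδ hDm)).subset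
        fun x hx => ?_
      by_cases hxv : x = e v
      · exact Or.inl hxv
      · right
        intro h0
        apply hx
        rw [Pi.sub_apply, pt_of_ne hxv, h0, sub_zero]
    · have hxr : x ∉ Set.range ⇑e := by
        rintro ⟨y, rfl⟩
        apply hx
        rw [Pi.sub_apply, hDV, hptV, sub_self]
      have hx0 : pt (e v) x = 0 := pt_of_ne fun h => hxr ⟨v, h.symm⟩
      have hDx : D x ≠ 0 := fun h0 => hx (by rw [Pi.sub_apply, hx0, h0, sub_zero])
      rw [hD, Finset.sum_apply] at hDx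
      obtain ⟨j, -, hj⟩ := Finset.exists_ne_zero_of_sum_ne_zero hDx
      obtain ⟨h2, h3⟩ := divFun_ne_zero hj
      refine ⟨?_, h x ⟨?_, hxr⟩⟩
      · have := e1 j
        omega
      · exact h2.mem_closed isClosed_closure (subset_closure ⟨ξ j, rfl⟩)
  have : pt (e v) = (pt (e v) - D) + D := by rw [sub_add_cancel]
  rw [this]
  exact AddSubgroup.add_mem _ hkey (finRat_le_spanOf _ _ hDm)

/-- **Stratifications.** -/
theorem pt_mem_of_strata {ι : Type*} [Finite ι] (U : ι → Set X) (ξ : ι → X)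
    (hlc : ∀ i, IsLocallyClosed (U i)) (hcov : ∀ x : X, ∃ i, x ∈ U i)
    (hdisj : ∀ i j, i ≠ j → Disjoint (U i) (U j))
    (hgen : ∀ i, ξ i ∈ U i ∧ U i ⊆ closure {ξ i})
    (hstrat : ∀ i j, (closure (U i) ∩ U j).Nonempty → U j ⊆ closure (U i))
    (hpc : ∀ i, ∃ (V : Scheme.{u}) (e : V ⟶ X), IsPreimmersion e ∧ Set.range ⇑e = U i ∧ RT V)
    (hδ : Cyc.IsDimFun X δ) (w : X) : pt w ∈ spanOf δ (Set.range ξ) (δ w) := by
  classical
  -- the rank of a stratum
  let rk : ι → ℕ := fun i => Set.ncard {j | U j ⊆ closure (U i)}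
  have hrk : ∀ i j, j ≠ i → U j ⊆ closure (U i) → rk j < rk i := by
    intro i j hji hj
    refine Set.ncard_lt_ncard ?_ (Set.toFinite _)
    refine ⟨fun l hl => ?_, fun hsub => hji ?_⟩
    · exact (Set.Subset.trans hl (closure_minimal hj isClosed_closure) : U l ⊆ closure (U i))
    · have h1 : U i ⊆ closure (U j) := hsub (subset_closure : U i ⊆ closure (U i))
      have h2 : ξ i ⤳ ξ j := by
        rw [specializes_iff_mem_closure]
        have := hj (hgen j).1
        exact closure_minimal (hgen i).2 isClosed_closure this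
      have h3 : ξ j ⤳ ξ i := by
        rw [specializes_iff_mem_closure]
        have := h1 (hgen i).1
        exact closure_minimal (hgen j).2 isClosed_closure this
      have h4 : ξ i = ξ j := (h2.antisymm h3).eq
      by_contra hne
      exact Set.disjoint_left.1 (hdisj j i hne) (hgen j).1 (h4 ▸ (hgen i).1)
  have key : ∀ (n : ℕ) (i : ι), rk i = n → ∀ w ∈ U i, pt w ∈ spanOf δ (Set.range ξ) (δ w) := by
    intro n
    induction n using Nat.strong_induction_on with
    | _ n ih =>
      intro i hi w hw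
      by_cases hwξ : w = ξ i
      · rw [hwξ]
        exact pt_mem_spanOf ⟨i, rfl⟩
      · obtain ⟨V, e, he, hre, hRT⟩ := hpc i
        obtain ⟨v, rfl⟩ : w ∈ Set.range ⇑e := hre ▸ hw
        obtain ⟨v₀, hv₀⟩ : ξ i ∈ Set.range ⇑e := hre ▸ (hgen i).1
        have hsp : v₀ ⤳ v := by
          rw [← DivNat.specializes_iff e, hv₀, specializes_iff_mem_closure]
          exact (hgen i).2 hw
        refine pt_mem_of_piece hδ e (hre ▸ hlc i) hRT hsp (fun h => hwξ (by rw [← hv₀, h])) ?_
        rintro x ⟨hx1, hx2⟩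
        rw [hre] at hx1 hx2
        obtain ⟨j, hj⟩ := hcov x
        have hji : j ≠ i := by
          rintro rfl
          exact hx2 hj
        have hjs := hstrat i j ⟨x, hx1, hj⟩
        exact ih (rk j) (hi ▸ hrk i j hji hjs) j rfl x hj
  obtain ⟨i, hi⟩ := hcov w
  exact key _ i rfl w hi

omit [IsLocallyNoetherian X] in
/-- from functions to cycles -/
theorem exists_cycle {S : Set X} (h : ∀ w : X, pt w ∈ spanOf δ S (δ w)) {k : ℤ} {α : AlgebraicCycle X ℤ}
    (hα : α ∈ Cyc.Zk X δ k) :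
    ∃ β : AlgebraicCycle X ℤ, β ∈ Cyc.Zk X δ k ∧ (∀ x : X, β x ≠ 0 → x ∈ S) ∧ Cyc.RatEquiv δ k α β := by
  have h1 : ⇑α ∈ spanOf δ S k := by
    refine mem_of_support_finite (finite_support α) fun x hx => ⟨?_, h x⟩
    by_contra hne
    exact hx (hα x hne)
  obtain ⟨b, hb1, hb2, hb3⟩ := h1
  refine ⟨⟨b, by simp, fun z _ => ⟨Set.univ, Filter.univ_mem, by simpa using hb1⟩⟩, fun x hx => ?_, fun x hx => (hb2 x hx).1, ?_⟩
  · by_contra hne
    exact hx (hb2 x hne).2
  · exact ratEquivZero_of_mem hb3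

end

end K711.Strata
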