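import Groth.Agent.CycA.SetupField
import Groth.Agent.CycB.DegReduce

/-!
# The dimension function at generic points
-/

set_option autoImplicit false
universe u

open CategoryTheory AlgebraicGeometry TopologicalSpace

namespace K711.DeltaGen

open Groth.Agent.CycB

variable {K : Type u} [Field K] {X : Scheme.{u}}

theorem dim_univ (X : Scheme.{u}) : topologicalKrullDim (Set.univ : Set X) = topologicalKrullDim X :=
  (Homeomorph.Set.univ X).isHomeomorph.topologicalKrullDim_eq

/-- The value of the dimension function at a generic point is the dimension. -/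
theorem exists_dim (f : X ⟶ Spec (CommRingCat.of K)) [LocallyOfFiniteType f] {δ : X → ℤ}
    (hδ : Cyc.DeltaCompat f δ (fun _ => 0)) {η : X} (hη : ∀ x, η ⤳ x) :
    ∃ n : ℕ, δ η = n ∧ topologicalKrullDim X = n := by
  obtain ⟨n, h1, h2⟩ := DegReduce.dim_closure K f δ hδ η
  have h3 : closure ({η} : Set X) = Set.univ := Set.eq_univ_of_forall fun x => (hη x).mem_closure
  rw [h3, dim_univ] at h2
  exact ⟨n, h1, h2⟩

theorem delta_generic (f : X ⟶ Spec (CommRingCat.of K)) [LocallyOfFiniteType f] {δ : X → ℤ}
    (hδ : Cyc.DeltaCompat f δ (fun _ => 0)) {η : X} (hη : ∀ x, η ⤳ x) {n : ℕ}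
    (hn : topologicalKrullDim X = n) : δ η = n := by
  obtain ⟨m, h1, h2⟩ := exists_dim f hδ hη
  rw [h2] at hn
  have : m = n := by exact_mod_cast hn
  rw [h1, this]

theorem genericPoint_spec (X : Scheme.{u}) [IrreducibleSpace X] (x : X) : genericPoint X ⤳ x :=
  genericPoint_specializes x

theorem dim_spec_mvPolynomial (K : Type u) [Field K] (n : ℕ) :
    topologicalKrullDim (Spec (CommRingCat.of (MvPolynomial (Fin n) K))) = n := by
  have h1 : topologicalKrullDim (Spec (CommRingCat.of (MvPolynomial (Fin n) K))) =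
      ringKrullDim (MvPolynomial (Fin n) K) :=
    PrimeSpectrum.topologicalKrullDim_eq_ringKrullDim _
  rw [h1, MvPolynomial.ringKrullDim_of_isNoetherianRing, ringKrullDim_eq_zero_of_field]
  simp

theorem locallyOfFiniteType_mvPolynomial (K : Type u) [Field K] (n : ℕ) :
    LocallyOfFiniteType (Spec.map (CommRingCat.ofHom (algebraMap K (MvPolynomial (Fin n) K)))) := by
  rw [HasRingHomProperty.Spec_iff (P := @LocallyOfFiniteType)]
  change (algebraMap K (MvPolynomial (Fin n) K)).FiniteType
  rw [RingHom.finiteType_algebraMap]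
  infer_instance

end K711.DeltaGen

namespace K711.DeltaGen

open Groth.Agent.CycB

/-- Existence of the dimension function induced from a field. -/
theorem exists_delta {K : Type u} [Field K] {X : Scheme.{u}} (f : X ⟶ Spec (CommRingCat.of K))
    [LocallyOfFiniteType f] : ∃ δ : X → ℤ, Cyc.DeltaCompat f δ (fun _ => 0) := by
  have h : ∀ x : X, ∃ n : ℕ, RelDim.rtd f x = n := fun x => by
    obtain ⟨n, hn, -⟩ := RelDim.exists_dim_closure f (isAffineOpen_top _)
      ((Scheme.ΓSpecIso (CommRingCat.of K)).commRingCatIsoToRingEquiv.toMulEquiv.isField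
        (Field.toIsField _)) x
    exact ⟨n, hn⟩
  choose n hn using h
  exact ⟨fun x => n x, RelDim.deltaCompat_iff.mpr fun x => ⟨n x, hn x, by simp⟩⟩

end K711.DeltaGen
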