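import Groth.Agent.IntTh.K711.AugPoly
import Groth.Agent.Fga.HodgeCore
import Groth.Agent.S3231

/-!
# Multilinearity of intersection numbers

`FGA.intNum` with at least `dim Supp F` entries is multilinear: powers (`intNum_pow`) and the binomial formula
(`intNum_mul`).
-/

set_option autoImplicit false
universe u
open CategoryTheory CategoryTheory.Limits AlgebraicGeometry
open Groth.Agent.Fga.PicMon Groth.Agent.Fga.HodgeCore Groth.Agent.Fga.AltSum Groth.Agent

namespace K711.NumInt

variable (k : Type u) [Field k] (X : Scheme.{u}) [X.Over (Spec (CommRingCat.of k))] (d : ℕ)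

/-- `c ↦ χ(c ⊗ F)` on classes of invertible modules -/
noncomputable def phi (F : X.Modules) (c : InvCl X) : ℤ := chiCl k X d F c

/-- the class of an invertible module -/
noncomputable def ic {L : X.Modules} (hL : PicF.IsInvertible L) : InvCl X := ⟨mc L, mem_invCl hL⟩

variable {X}

theorem intNum_eq_phi {r : ℕ} (M : Fin r → X.Modules) (hM : ∀ i, PicF.IsInvertible (M i)) (F : X.Modules) :
    FGA.intNum k X d M F = dSum (phi k X d F) (fun i => ic X (hM i)) := by
  rw [intNum_eq_dSum]
  exact AugPoly.dSum_comp_hom (InvCl X).subtype (chiCl k X d F) (fun i => ic X (hM i))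

theorem exists_rep (c : InvCl X) : ∃ (L : X.Modules) (hL : PicF.IsInvertible L), ic X hL = c := by
  obtain ⟨c, L, hL, h⟩ := c
  exact ⟨L, hL, Subtype.ext h⟩

variable [IsProper (X ↘ Spec (CommRingCat.of k))]

theorem dSum_phi_eq_zero (hd : topologicalKrullDim X ≤ d) {F : X.Modules} (hF : Coh.IsCoh F) {m : ℕ}
    (hm : topologicalKrullDim (CohB1.support F) ≤ m) (r : ℕ) (hr : m + 1 ≤ r) (g : Fin r → InvCl X) :
    dSum (phi k X d F) g = 0 := by
  choose M hM h using fun i => exists_rep (g i)
  have e : g = fun i => ic X (hM i) := funext fun i => (h i).symm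
  rw [e, ← intNum_eq_phi]
  exact S3231.result k X d hd M hM F hF (hm.trans_lt (by exact_mod_cast hr))

variable {k d}

/-- powers pull out with exponent the number of entries -/
theorem intNum_pow (hd : topologicalKrullDim X ≤ d) {F : X.Modules} (hF : Coh.IsCoh F) {m : ℕ}
    (hm : topologicalKrullDim (CohB1.support F) ≤ m) {A B : X.Modules} (hA : PicF.IsInvertible A)
    (hB : PicF.IsInvertible B) (e : ℕ) (h : mc B = mc A ^ e) :
    FGA.intNum k X d (fun _ : Fin m => B) F = (e : ℤ) ^ m * FGA.intNum k X d (fun _ : Fin m => A) F := by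
  have e1 : ic X hB = ic X hA ^ e := Subtype.ext (h.trans (SubmonoidClass.coe_pow (ic X hA) e).symm)
  rw [intNum_eq_phi k d _ (fun _ => hB), intNum_eq_phi k d _ (fun _ => hA), e1]
  exact AugPoly.dSum_pow (dSum_phi_eq_zero k d hd hF hm) (ic X hA) e

/-- the binomial formula -/
theorem intNum_mul (hd : topologicalKrullDim X ≤ d) {F : X.Modules} (hF : Coh.IsCoh F) {m : ℕ}
    (hm : topologicalKrullDim (CohB1.support F) ≤ m) {A B : X.Modules} (hA : PicF.IsInvertible A)
    (hB : PicF.IsInvertible B) :
    FGA.intNum k X d (fun _ : Fin m => CohB1.tensorMod A B) F =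
      ∑ i ∈ Finset.range (m + 1), (m.choose i : ℤ) *
        FGA.intNum k X d (Fin.append (fun _ : Fin i => A) (fun _ : Fin (m - i) => B)) F := by
  rw [intNum_eq_phi k d _ (fun _ => Groth.Agent.Fdesc.LocGen.isInvertible_tensorMod hA hB)]
  refine (AugPoly.dSum_mul (dSum_phi_eq_zero k d hd hF hm) (ic X hA) (ic X hB)).trans ?_
  refine Finset.sum_congr rfl fun i _ => ?_
  have hM : ∀ j, PicF.IsInvertible (Fin.append (fun _ : Fin i => A) (fun _ : Fin (m - i) => B) j) := by
    intro j
    refine Fin.addCases (fun j => ?_) (fun j => ?_) j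
    · rw [Fin.append_left]; exact hA
    · rw [Fin.append_right]; exact hB
  rw [intNum_eq_phi k d _ hM]
  congr 2
  funext j
  refine Fin.addCases (fun j => ?_) (fun j => ?_) j
  · rw [Fin.append_left]
    exact Subtype.ext (congrArg mc (Fin.append_left (fun _ : Fin i => A) (fun _ : Fin (m - i) => B) j).symm)
  · rw [Fin.append_right]
    exact Subtype.ext (congrArg mc (Fin.append_right (fun _ : Fin i => A) (fun _ : Fin (m - i) => B) j).symm)

end K711.NumInt
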