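import Groth.Agent.IntTh.K711.CycFun
import Groth.Agent.IntTh.K711.NumInt
import Groth.Agent.Fga.HodgePush
import Groth.Agent.VarietyB.DimTop
import Groth.Agent.CycB.DegReduce
import Groth.Agent.CycA.SetupField
import Groth.Agent.Pic13.H956.Numbers
import Groth.Agent.S1899
import Groth.Agent.CycB.C1Pull

/-!
# Intersection numbers as functions of cycles
-/

set_option autoImplicit false
universe u
open CategoryTheory CategoryTheory.Limits AlgebraicGeometry TopologicalSpace Topology
open Groth.Agent

namespace K711.IntCyc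

section Dim

variable {X : Scheme.{u}} (k : Type u) [Field k]

theorem dim_le_of_points {F : Type u} [TopologicalSpace F] [QuasiSober F] [T0Space F]
    {S : Set F} (hS : IsClosed S) (m : WithBot ℕ∞) (h : ∀ t ∈ S, topologicalKrullDim (closure {t} : Set F) ≤ m) :
    topologicalKrullDim S ≤ m := by
  have hSq : QuasiSober S := hS.isClosedEmbedding_subtypeVal.quasiSober
  rw [VarietyB.DimTop.topologicalKrullDim_eq_iSup_irreducibleComponents]
  refine iSup_le fun T => ?_
  have hTi : IsIrreducible T.1 := T.2.1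
  have hTc : IsClosed T.1 := isClosed_of_mem_irreducibleComponents T.1 T.2
  have hgen := hTi.isGenericPoint_genericPoint hTc
  refine le_trans ?_ (h hTi.genericPoint.1 hTi.genericPoint.2)
  refine VarietyB.DimTop.topologicalKrullDim_le_of_isEmbedding IsInducing.subtypeVal _ _
    fun y hy => ?_
  rw [← specializes_iff_mem_closure]
  exact (hgen.specializes hy).map continuous_subtype_val

/-- dimension of closed subsets in terms of `δ` -/
theorem dim_le_iff (p : X ⟶ Spec (CommRingCat.of k)) [LocallyOfFiniteType p] {δ : X → ℤ}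
    (hδ : Cyc.DeltaCompat p δ (fun _ => 0)) {S : Set X} (hS : IsClosed S) (m : ℕ) :
    topologicalKrullDim S ≤ (m : WithBot ℕ∞) ↔ ∀ x ∈ S, δ x ≤ m := by
  constructor
  · intro h x hx
    obtain ⟨n, hn, hn'⟩ := CycB.DegReduce.dim_closure k p δ hδ x
    have h1 : topologicalKrullDim (closure {x} : Set X) ≤ topologicalKrullDim S :=
      VarietyB.DimTop.topologicalKrullDim_le_of_isEmbedding (f := id) IsInducing.id _ _
        (fun y hy => closure_minimal (Set.singleton_subset_iff.2 hx) hS hy)
    have h2 := hn' ▸ h1.trans h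
    have h3 : n ≤ m := by exact_mod_cast h2
    omega
  · intro h
    refine dim_le_of_points hS _ fun t ht => ?_
    obtain ⟨n, hn, hn'⟩ := CycB.DegReduce.dim_closure k p δ hδ t
    have := h t ht
    rw [hn']
    have h3 : n ≤ m := by omega
    exact_mod_cast h3

theorem dim_lt_iff (p : X ⟶ Spec (CommRingCat.of k)) [LocallyOfFiniteType p] {δ : X → ℤ}
    (hδ : Cyc.DeltaCompat p δ (fun _ => 0)) {S : Set X} (hS : IsClosed S) (m : ℕ)
    (h : ∀ x ∈ S, δ x < m) : topologicalKrullDim S < (m : WithBot ℕ∞) := by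
  cases m with
  | zero =>
    have : IsEmpty S := ⟨fun x => by
      obtain ⟨n, hn, -⟩ := CycB.DegReduce.dim_closure k p δ hδ x.1
      have := h x.1 x.2
      simp only [Nat.cast_zero] at this
      omega⟩
    have h2 : IsEmpty (IrreducibleCloseds S) := ⟨fun Z => by
      obtain ⟨z, -⟩ := Z.isIrreducible.nonempty
      exact this.false z⟩
    rw [show topologicalKrullDim S = ⊥ from Order.krullDim_eq_bot]
    exact WithBot.bot_lt_coe _
  | succ m =>
    have h1 := (dim_le_iff k p hδ hS m).2 fun x hx => by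
      have := h x hx
      push_cast at this
      omega
    exact h1.trans_lt (by exact_mod_cast Nat.lt_succ_self m)

/-- dimension of a scheme in terms of `δ` -/
theorem dim_scheme_le_iff (p : X ⟶ Spec (CommRingCat.of k)) [LocallyOfFiniteType p] {δ : X → ℤ}
    (hδ : Cyc.DeltaCompat p δ (fun _ => 0)) (m : ℕ) :
    topologicalKrullDim X ≤ (m : WithBot ℕ∞) ↔ ∀ x : X, δ x ≤ m := by
  have h1 : topologicalKrullDim (Set.univ : Set X) = topologicalKrullDim X :=
    IsHomeomorph.topologicalKrullDim_eq _ (Homeomorph.Set.univ X).isHomeomorph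
  rw [← h1, dim_le_iff k p hδ isClosed_univ m]
  simp

theorem delta_nonneg (p : X ⟶ Spec (CommRingCat.of k)) [LocallyOfFiniteType p] {δ : X → ℤ}
    (hδ : Cyc.DeltaCompat p δ (fun _ => 0)) (x : X) : 0 ≤ δ x := by
  obtain ⟨n, hn, -⟩ := CycB.DegReduce.dim_closure k p δ hδ x
  omega

end Dim

section Int

variable {k : Type u} [Field k] {X : Scheme.{u}} [X.Over (Spec (CommRingCat.of k))]
  [IsProper (X ↘ Spec (CommRingCat.of k))] {δ : X → ℤ}

theorem isSetup (hδ : Cyc.DeltaCompat (X ↘ Spec (CommRingCat.of k)) δ (fun _ => 0)) : Cyc.IsSetup X δ :=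
  CycA.SetupField.isSetup_of_field _ hδ

/-- intersection numbers with `r` invertible modules are functions of `r`-cycles -/
theorem isCycFun (hδ : Cyc.DeltaCompat (X ↘ Spec (CommRingCat.of k)) δ (fun _ => 0))
    {d : ℕ} (hd : topologicalKrullDim X ≤ d) {r : ℕ} (M : Fin r → X.Modules) (hM : ∀ i, PicF.IsInvertible (M i)) :
    CycFun.IsCycFun δ (r : ℤ) (fun F => FGA.intNum k X d M F) where
  add T hT h1 h2 h3 := by
    have := Fga.IntAdd.isNoetherian k X
    exact Fga.IntAdd.isAdd_intNum k X d hd M hM T hT h1.1 h2.1 h3.1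
  van F hF := by
    have := Fga.IntAdd.isNoetherian k X
    refine S3231.result k X d hd M hM F hF.1 ?_
    refine dim_lt_iff k _ hδ (Ega3B.Devissage.isClosed_support hF.1) r fun x hx => ?_
    have := hF.2 x (not_subsingleton_iff_nontrivial.1 hx)
    omega

omit [X.Over (Spec (CommRingCat.of k))] [IsProper (X ↘ Spec (CommRingCat.of k))] in
/-- the coherent module of a closed subscheme -/
theorem cohLe_push [IsLocallyNoetherian X] {i : Scheme.{u}} (f : i ⟶ X) [IsClosedImmersion f] {m : ℤ}
    (h : ∀ z : i, δ (f z) ≤ m) :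
    Cyc.CohLe δ m ((Coh.push f).obj (Coh.structureModule i)) := by
  have : IsLocallyNoetherian i := LocallyOfFiniteType.isLocallyNoetherian f
  refine ⟨Fga.HodgePush.isCoh_push f (CycB.DegCurve.isCoh_of_isInvertible Fdesc.LocGen.isInvertible_structureModule), ?_⟩
  intro x hx
  by_contra hcon
  refine not_subsingleton_iff_nontrivial.2 hx ?_
  have h1 : x ∉ closure (Set.range f) := by
    rw [f.isClosedEmbedding.isClosed_range.closure_eq]
    rintro ⟨z, rfl⟩
    exact hcon (h z)
  exact CycB.PushStalk.subsingleton_stalk_push f (Coh.structureModule i) x h1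

/-- the value on the cycle of a closed subscheme -/
theorem num_subscheme (hδ : Cyc.DeltaCompat (X ↘ Spec (CommRingCat.of k)) δ (fun _ => 0))
    {d : ℕ} (hd : topologicalKrullDim X ≤ d) {r : ℕ} (M : Fin r → X.Modules) (hM : ∀ i, PicF.IsInvertible (M i))
    {Z : Scheme.{u}} (f : Z ⟶ X) [IsClosedImmersion f] (h : ∀ z : Z, δ (f z) ≤ r)
    {α : AlgebraicCycle X ℤ} (hα : ⇑α = Cyc.subschemeFun δ (r : ℤ) f) :
    CycFun.num (fun F => FGA.intNum k X d M F) α = FGA.intNum k X d M ((Coh.push f).obj (Coh.structureModule Z)) := by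
  have := Fga.IntAdd.isNoetherian k X
  refine CycFun.num_of_sheaf (isSetup hδ) (isCycFun hδ hd M hM) (cohLe_push f h) ?_
  rw [hα]
  exact S1899.result X Z δ (isSetup hδ) f r h

/-- the intersection number on the ambient scheme against a closed subscheme is computed on the subscheme -/
theorem intNum_push {Z : Scheme.{u}} [Z.Over (Spec (CommRingCat.of k))] (f : Z ⟶ X) [IsClosedImmersion f]
    (hf : f ≫ (X ↘ Spec (CommRingCat.of k)) = Z ↘ Spec (CommRingCat.of k))
    (d e : ℕ) (hd : topologicalKrullDim X ≤ d) (he : topologicalKrullDim Z ≤ e)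
    {r : ℕ} (M : Fin r → X.Modules) (hM : ∀ i, PicF.IsInvertible (M i)) :
    FGA.intNum k Z e (fun i => (Scheme.Modules.pullback f).obj (M i)) (Coh.structureModule Z) =
      FGA.intNum k X d M ((Coh.push f).obj (Coh.structureModule Z)) := by
  have : IsProper (Z ↘ Spec (CommRingCat.of k)) := by rw [← hf]; infer_instance
  have := Fga.IntAdd.isNoetherian k X
  have := Fga.IntAdd.isNoetherian k Z
  have hO : Coh.IsCoh (Coh.structureModule Z) :=
    CycB.DegCurve.isCoh_of_isInvertible Fdesc.LocGen.isInvertible_structureModule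
  refine Fga.HodgePush.intNum_push k X Z f hf d e hd he M hM _ hO fun I => ?_
  refine Fga.HodgePush.acyc_of_isAffineHom f ?_
  exact (Fga.SnapperTwist.isCoh_tensor' (CycB.C1Pull.isInvertible_pullback f (Fga.HodgePush.isInvertible_word M hM I)) hO).1

end Int

end K711.IntCyc
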