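import Groth.Agent.IntTh.K711.LinAlg
import Groth.Agent.IntTh.K711.IntCyc
import Groth.Agent.IntTh.K711.TwistCls
import Groth.Agent.Ega2.H291.MapZero
import Groth.Agent.Lefpen.H718.Chart
import Groth.Agent.Sga67.TwistPull

/-!
# Linear subspaces of projective space

For linearly independent linear forms `ℓ` (`card ι + m = n`) the closed immersion `P^m ⟶ P^n` with ideal
`LefPen.ciIdeal ℓ`.
-/

set_option autoImplicit false
universe u

open CategoryTheory CategoryTheory.Limits AlgebraicGeometry MvPolynomial LefPen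
open Groth.Agent Groth.Agent.Lefpen.H705.HypIdeal Groth.Agent.Lefpen.H705.ChartPoly Groth.Agent.Sga5
open Groth.Agent.Lefpen.H705.SecIdeal HomogeneousLocalization Groth.Agent.Fdesc.LocGen

namespace K711.Lin

variable {n m : ℕ} {k : Type u} [Field k]

theorem ciIdeal_ideal_of_le {ι : Type} {a : ι → ℕ} (G : ∀ j, Form n k (a j)) (j : Fin (n + 1))
    (U : (CohB1.ProjSpace n k).affineOpens) (hU : U.1 ≤ chart n k j) :
    (ciIdeal G).ideal U = Ideal.span (Set.range fun i => ores hU (dehom (G i) j)) := by
  rw [ciIdeal, Scheme.IdealSheafData.ideal_iSup, iSup_apply]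
  simp_rw [hypIdeal_ideal_of_le _ j U hU]
  rw [← Ideal.span_iUnion]
  congr 1
  ext x
  simp [eq_comm]

theorem ciIdeal_ideal_chart {ι : Type} {a : ι → ℕ} (G : ∀ j, Form n k (a j)) (j : Fin (n + 1)) :
    (ciIdeal G).ideal ⟨chart n k j, isAffineOpen_chart j⟩ = Ideal.span (Set.range fun i => dehom (G i) j) := by
  rw [ciIdeal_ideal_of_le G j _ le_rfl]
  congr 3

variable {ι : Type} [Fintype ι] (b : Module.Basis (ι ⊕ Fin (m + 1)) k (Form n k 1))

/-- the linear embedding -/
noncomputable def emb : CohB1.ProjSpace m k ⟶ CohB1.ProjSpace n k :=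
  Proj.map (LinAlg.φG b) (ProjSurj.irrelevant_le_map (LinAlg.degSurj b))

instance : IsClosedImmersion (emb b) := ProjSurj.isClosedImmersion_map _ (LinAlg.degSurj b)

theorem emb_toSpec : emb b ≫ CohB1.ProjSpace.toSpec n k = CohB1.ProjSpace.toSpec m k :=
  Ega2.H291.MapZero.map_toSpec _ _ fun c => (LinAlg.φ b).commutes c

theorem nonempty_pullback_twist (t : ℤ) :
    Nonempty ((Scheme.Modules.pullback (emb b)).obj (Twist.twistProjSpace n k t) ≅ Twist.twistProjSpace m k t) := by
  have h := Ega3B.ProjFrame.coveredByOne n k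
  have h1 := Sga67.TwistPull.isIso_cmp (LinAlg.φG b) (ProjSurj.irrelevant_le_map (LinAlg.degSurj b)) h t
  exact ⟨@asIso _ _ _ _ (Sga67.TwistPull.cmp (LinAlg.φG b) (ProjSurj.irrelevant_le_map (LinAlg.degSurj b)) t) h1⟩

/-- dehomogenization -/
noncomputable def D (j : Fin (n + 1)) : MvPolynomial (Fin (n + 1)) k →+* Γ(CohB1.ProjSpace n k, chart n k j) :=
  (polyToChart j).comp (ProjChart.dehom n k j)

theorem dehom_eq_D {d : ℕ} (G : Form n k d) (j : Fin (n + 1)) : dehom G j = D j G.1 := dehom_eq G j

omit [Fintype ι] in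
theorem awayToSection_bijective (n : ℕ) (s : MvPolynomial (Fin (n + 1)) k) (hs : s ∈ CohB1.polyGrading n k 1) :
    Function.Bijective (Proj.awayToSection (CohB1.polyGrading n k) s).hom := by
  have h2 : IsIso (Proj.awayToSection (CohB1.polyGrading n k) s) := by
    rw [← Proj.basicOpenIsoAway_hom (CohB1.polyGrading n k) s hs Nat.one_pos]
    infer_instance
  exact ConcreteCategory.bijective_of_isIso (Proj.awayToSection (CohB1.polyGrading n k) s)

/-- sections on a chart come from homogeneous forms -/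
theorem exists_dehom (j : Fin (n + 1)) (z : Γ(CohB1.ProjSpace n k, chart n k j)) :
    ∃ (d : ℕ) (G : Form n k d), z = dehom G j := by
  obtain ⟨w, rfl⟩ := (awayToSection_bijective n (X j) (X_mem n k j)).2 z
  obtain ⟨d, a, ha, rfl⟩ := Away.mk_surjective (CohB1.polyGrading n k) (X_mem n k j) w
  have ha' : a ∈ CohB1.polyGrading n k d := by simpa using ha
  exact ⟨d, ⟨a, ha'⟩, rfl⟩

theorem app_dehom (j : Fin (n + 1)) {d : ℕ} (G : Form n k d) :
    (emb b).app (chart n k j) (dehom G j) =
      (Proj.awayToSection (CohB1.polyGrading m k) (LinAlg.φ b (X j))).hom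
        (Away.mk (CohB1.polyGrading m k) ((LinAlg.φG b).2 (X_mem n k j)) d (LinAlg.φ b G.1)
          (by rw [smul_eq_mul, mul_one]; exact (LinAlg.φG b).2 G.2)) := by
  have h := Proj.awayToSection_comp_appLE (LinAlg.φG b) (ProjSurj.irrelevant_le_map (LinAlg.degSurj b))
    (X_mem n k j)
  have h2 := congr($(h).hom (Away.mk (CohB1.polyGrading n k) (X_mem n k j) d G.1
    (by rw [smul_eq_mul, mul_one]; exact G.2)))
  rw [CommRingCat.hom_comp, CommRingCat.hom_comp, RingHom.comp_apply, RingHom.comp_apply,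
    CommRingCat.hom_ofHom, Away.map_mk] at h2
  rw [Scheme.Hom.app_eq_appLE]
  exact h2

/-- the kernel of the embedding on a chart -/
theorem ker_app (j : Fin (n + 1)) :
    RingHom.ker ((emb b).app (chart n k j)).hom =
      Ideal.span (Set.range fun i => dehom (b (Sum.inl i)) j) := by
  have hspan : Ideal.span (Set.range fun i => dehom (b (Sum.inl i)) j) =
      (RingHom.ker (LinAlg.φ b)).map (D j) := by
    rw [LinAlg.ker_φ, Ideal.map_span, ← Set.range_comp]
    congr 2
    funext i
    exact dehom_eq_D _ _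
  rw [hspan]
  apply le_antisymm
  · intro z hz
    obtain ⟨d, G, rfl⟩ := exists_dehom j z
    have h1 : (emb b).app (chart n k j) (dehom G j) = 0 := hz
    rw [app_dehom] at h1
    by_cases hj : LinAlg.φ b (X j) = 0
    · have h2 : (D j (X j) : Γ(CohB1.ProjSpace n k, chart n k j)) ∈ (RingHom.ker (LinAlg.φ b)).map (D j) :=
        Ideal.mem_map_of_mem _ hj
      have h3 : D (k := k) j (X j) = 1 := by
        rw [D, RingHom.comp_apply, ProjChart.dehom_X_self, map_one]
      rw [h3] at h2
      rw [(Ideal.eq_top_iff_one _).2 h2]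
      trivial
    · have h4 := (injective_iff_map_eq_zero _).1 (awayToSection_bijective m (LinAlg.φ b (X j))
        ((LinAlg.φG b).2 (X_mem n k j))).1 _ h1
      have h5 := congrArg HomogeneousLocalization.val h4
      rw [Away.val_mk, HomogeneousLocalization.val_zero, Localization.mk_eq_mk', IsLocalization.mk'_eq_zero_iff] at h5
      obtain ⟨⟨_, e, rfl⟩, h6⟩ := h5
      have h7 : LinAlg.φ b G.1 = 0 := by
        rcases mul_eq_zero.1 h6 with h | h
        · exact absurd h (pow_ne_zero e hj)
        · exact h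
      rw [dehom_eq_D]
      exact Ideal.mem_map_of_mem _ h7
  · rw [← hspan, Ideal.span_le]
    rintro _ ⟨i, rfl⟩
    change (emb b).app (chart n k j) (dehom (b (Sum.inl i)) j) = 0
    rw [app_dehom]
    refine Eq.trans (congrArg (Proj.awayToSection (CohB1.polyGrading m k) (LinAlg.φ b (X j))).hom ?_)
      (map_zero (Proj.awayToSection (CohB1.polyGrading m k) (LinAlg.φ b (X j))).hom)
    apply HomogeneousLocalization.val_injective
    rw [Away.val_mk, HomogeneousLocalization.val_zero]
    simp only [LinAlg.φ_inl]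
    exact Localization.mk_zero _

theorem ker_emb : (emb b).ker = ciIdeal (a := fun _ : ι => 1) (fun i => b (Sum.inl i)) := by
  refine Scheme.IdealSheafData.ext_of_iSup_eq_top (fun j : Fin (n + 1) => ⟨chart n k j, isAffineOpen_chart j⟩)
    iSup_chart fun j => ?_
  rw [ciIdeal_ideal_chart, Scheme.Hom.ker_apply]
  exact ker_app b j

end K711.Lin
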