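import Groth.Agent.IntTh.K711.ProdNum
import Groth.Agent.IntTh.K711.TwistCls
import Groth.Agent.S1582

/-!
# Products of two projective spaces: dimension and intersection numbers of `O(-1,0)`, `O(0,-1)`
-/

set_option autoImplicit false
universe u
open CategoryTheory CategoryTheory.Limits AlgebraicGeometry Groth.Agent
open Groth.Agent.Fga.PicMon Groth.Agent.Fga.HodgeCore Groth.Agent.Fga.AltSum

namespace K711.ProdPn

section One

variable (n : ℕ) (k : Type u) [Field k]

theorem isProper (n : ℕ) (k : Type u) [Field k] : IsProper (CohB1.ProjSpace n k ↘ Spec (CommRingCat.of k)) :=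
  VarietyB.ProjSpaceProper.isProper_toSpec n k

theorem isCoh_O (X : Scheme.{u}) [IsLocallyNoetherian X] : Coh.IsCoh (Coh.structureModule X) :=
  CycB.DegCurve.isCoh_of_isInvertible Fdesc.LocGen.isInvertible_structureModule

theorem dim_le : topologicalKrullDim (CohB1.ProjSpace n k) ≤ (n : WithBot ℕ∞) :=
  (ProjDim.topologicalKrullDim_projSpace n k).le

/-- intersection numbers of `O(-1)` with itself, any number of entries -/
theorem intNum_pn (i : ℕ) :
    FGA.intNum k (CohB1.ProjSpace n k) n (fun _ : Fin i => Twist.twistProjSpace n k (-1))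
      (Coh.structureModule (CohB1.ProjSpace n k)) = if i ≤ n then 1 else 0 := by
  split_ifs with hi
  · rw [intNum_eq_dSum]
    unfold dSum
    rw [Finset.sum_eq_single (∅ : Finset (Fin i))]
    · rw [Finset.card_empty, pow_zero, one_mul, Finset.prod_empty, chiCl_one, ← TwistCls.c_zero n,
        ← TwistCls.chi_twist n k 0]
      obtain ⟨e⟩ := Ega2.TwistInv.nonempty_unit_iso (CohB1.polyGrading n k)
      exact euler_iso k _ e n
    · intro I _ hI
      rw [Finset.prod_const, TwistCls.mc_pow, chiCl_mc]
      have h1 : 0 < I.card := Finset.card_pos.2 (Finset.nonempty_iff_ne_empty.2 hI)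
      have h2 : I.card ≤ n := ((Finset.card_le_univ I).trans (by simp)).trans hi
      rw [euler_iso k _ (Ega2.Tens.runit _) n, TwistCls.chi_twist, mul_neg_one, TwistCls.c_neg n h1 h2, mul_zero]
    · intro h; exact absurd (Finset.mem_univ _) h
  · have := isProper n k
    have := Fga.IntAdd.isNoetherian k (CohB1.ProjSpace n k)
    refine S3231.result k _ n (dim_le n k) _ (fun _ => TwistCls.isInvertible_twist n k (-1)) _
      (isCoh_O _) ?_
    refine ((topologicalKrullDim_subspace_le _ _).trans (dim_le n k)).trans_lt ?_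
    exact_mod_cast (by omega : n < i)

end One

section Two

variable (r s : ℕ) (k : Type u) [Field k]

/-- the product -/
noncomputable abbrev PP : Scheme.{u} := pullback (CohB1.ProjSpace.toSpec r k) (CohB1.ProjSpace.toSpec s k)

/-- its structure morphism -/
noncomputable abbrev str : PP r s k ⟶ Spec (CommRingCat.of k) :=
  pullback.fst (CohB1.ProjSpace.toSpec r k) (CohB1.ProjSpace.toSpec s k) ≫ CohB1.ProjSpace.toSpec r k

/-- `O(a, 0)` -/
noncomputable abbrev O1 (a : ℤ) : (PP r s k).Modules :=
  (Scheme.Modules.pullback (pullback.fst (CohB1.ProjSpace.toSpec r k) (CohB1.ProjSpace.toSpec s k))).obj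
    (Twist.twistProjSpace r k a)

/-- `O(0, b)` -/
noncomputable abbrev O2 (b : ℤ) : (PP r s k).Modules :=
  (Scheme.Modules.pullback (pullback.snd (CohB1.ProjSpace.toSpec r k) (CohB1.ProjSpace.toSpec s k))).obj
    (Twist.twistProjSpace s k b)

theorem isInvertible_O1 (a : ℤ) : PicF.IsInvertible (O1 r s k a) :=
  CycB.C1Pull.isInvertible_pullback _ (TwistCls.isInvertible_twist r k a)

theorem isInvertible_O2 (b : ℤ) : PicF.IsInvertible (O2 r s k b) :=
  CycB.C1Pull.isInvertible_pullback _ (TwistCls.isInvertible_twist s k b)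

/-- the `i + j` modules `O(-1,0), …, O(-1,0), O(0,-1), …, O(0,-1)` -/
noncomputable abbrev MM (i j : ℕ) : Fin (i + j) → (PP r s k).Modules :=
  Fin.append (fun _ : Fin i => O1 r s k (-1)) (fun _ : Fin j => O2 r s k (-1))

theorem isInvertible_MM (i j : ℕ) (l : Fin (i + j)) : PicF.IsInvertible (MM r s k i j l) := by
  refine Fin.addCases (fun l => ?_) (fun l => ?_) l
  · rw [MM, Fin.append_left]; exact isInvertible_O1 r s k _
  · rw [MM, Fin.append_right]; exact isInvertible_O2 r s k _

theorem isProper_str : IsProper (str r s k) := by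
  have h2 : IsProper (CohB1.ProjSpace.toSpec s k) := isProper s k
  have h1' : IsProper (CohB1.ProjSpace.toSpec r k) := isProper r k
  exact MorphismProperty.comp_mem @IsProper _ _ inferInstance h1'

theorem isIntegral_PP [IsAlgClosed k] : IsIntegral (PP r s k) := by
  have h2 : IsProper (CohB1.ProjSpace.toSpec s k) := isProper s k
  have h1 : IsProper (CohB1.ProjSpace.toSpec r k) := isProper r k
  have := ProjDim.isIntegral_projSpace r k
  have := ProjDim.isIntegral_projSpace s k
  exact S1582.result k _ _ _ _

theorem dim_PP [IsAlgClosed k] : topologicalKrullDim (PP r s k) = ((r + s : ℕ) : WithBot ℕ∞) := by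
  have h2 : IsProper (CohB1.ProjSpace.toSpec s k) := isProper s k
  have h1 : IsProper (CohB1.ProjSpace.toSpec r k) := isProper r k
  have := ProjDim.isIntegral_projSpace r k
  have := ProjDim.isIntegral_projSpace s k
  have := isIntegral_PP r s k
  obtain ⟨n, m, hn, hm, h⟩ := CycA.ProdDim.exists_dim_pullback (CohB1.ProjSpace.toSpec r k)
    (CohB1.ProjSpace.toSpec s k)
  rw [ProjDim.topologicalKrullDim_projSpace] at hn hm
  have hn' : r = n := by exact_mod_cast hn
  have hm' : s = m := by exact_mod_cast hm
  subst hn' hm'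
  exact h

/-- intersection numbers of the two hyperplane bundles -/
theorem intNum_MM (i j : ℕ) :
    letI : (PP r s k).Over (Spec (CommRingCat.of k)) := ⟨str r s k⟩
    FGA.intNum k (PP r s k) (r + s) (MM r s k i j) (Coh.structureModule (PP r s k)) =
      (if i ≤ r then 1 else 0) * (if j ≤ s then 1 else 0) := by
  have := isProper r k
  have := isProper s k
  rw [← intNum_pn r k i, ← intNum_pn s k j]
  exact ProdNum.intNum_append (X := CohB1.ProjSpace r k) (Y := CohB1.ProjSpace s k) r s (dim_le r k)
    (dim_le s k) (fun _ : Fin i => Twist.twistProjSpace r k (-1)) (fun _ => TwistCls.isInvertible_twist r k (-1))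
    (fun _ : Fin j => Twist.twistProjSpace s k (-1)) (fun _ => TwistCls.isInvertible_twist s k (-1))

end Two

end K711.ProdPn
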