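import Groth.Agent.Fga.AltSum
import Mathlib.Algebra.MonoidAlgebra.Basic
import Mathlib.RingTheory.Ideal.Operations
import Mathlib.Data.Nat.Choose.Sum

/-!
# Polynomial functions on a commutative monoid through the monoid algebra

For `φ : G → ℤ` the mixed difference `dSum φ g` is the value of the additive extension of `φ` to `ℤ[G]` at
`∏ (1 - g_i)`.  If all mixed differences with more than `m` entries vanish, then the extension kills the `(m+1)`-st
power of the augmentation ideal, which gives multilinearity and the binomial theorem for mixed differences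
with `m` entries.
-/

set_option autoImplicit false

open Groth.Agent.Fga.AltSum

namespace K711.AugPoly

variable {G : Type*} [CommMonoid G]

/-- the additive extension of a function to the monoid algebra -/
noncomputable def lin (φ : G → ℤ) : MonoidAlgebra ℤ G →+ ℤ :=
  MonoidAlgebra.liftNC (AddMonoidHom.id ℤ) φ

/-- the image of an element in the monoid algebra -/
noncomputable def o (g : G) : MonoidAlgebra ℤ G := MonoidAlgebra.of ℤ G g

theorem o_mul (a b : G) : o (a * b) = o a * o b := map_mul _ _ _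

theorem o_one : o (1 : G) = 1 := map_one _

theorem lin_o (φ : G → ℤ) (g : G) : lin φ (o g) = φ g := by
  unfold lin o
  rw [MonoidAlgebra.of_apply, MonoidAlgebra.liftNC_single]
  simp

theorem lin_o_mul (φ : G → ℤ) (a : G) (x : MonoidAlgebra ℤ G) :
    lin φ (o a * x) = lin (fun y => φ (a * y)) x := by
  induction x using MonoidAlgebra.induction_on with
  | of g =>
    change lin φ (o a * o g) = lin _ (o g)
    rw [← o_mul, lin_o, lin_o]
  | add x y hx hy => rw [mul_add, map_add, map_add, hx, hy]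
  | smul r x hx =>
    rw [mul_smul_comm, map_zsmul, map_zsmul, hx]

theorem lin_prod (φ : G → ℤ) {r : ℕ} (g : Fin r → G) : lin φ (∏ i, (1 - o (g i))) = dSum φ g := by
  induction r generalizing φ with
  | zero => rw [Fin.prod_univ_zero, dSum_zero, ← o_one, lin_o]
  | succ r ih =>
    rw [Fin.prod_univ_succ, sub_mul, one_mul, map_sub, lin_o_mul, ih, ih, ← dSum_cons]
    congr 1
    exact Fin.cons_self_tail g

/-- the augmentation ideal -/
noncomputable def aug (G : Type*) [CommMonoid G] : Ideal (MonoidAlgebra ℤ G) :=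
  Ideal.span (Set.range fun g : G => 1 - o g)

theorem one_sub_mem (g : G) : 1 - o g ∈ aug G := Ideal.subset_span ⟨g, rfl⟩

theorem prod_mem {r : ℕ} (g : Fin r → G) : ∏ i, (1 - o (g i)) ∈ aug G ^ r := by
  induction r with
  | zero => rw [pow_zero, Ideal.one_eq_top]; trivial
  | succ r ih =>
    rw [Fin.prod_univ_succ, pow_succ']
    exact Ideal.mul_mem_mul (one_sub_mem _) (ih _)

/-- the powers of the augmentation ideal are additively generated by the `a * ∏ (1 - g_i)` -/
theorem mem_pow_closure (r : ℕ) {x : MonoidAlgebra ℤ G} (hx : x ∈ aug G ^ r) :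
    x ∈ AddSubgroup.closure {y | ∃ (a : G) (g : Fin r → G), y = o a * ∏ i, (1 - o (g i))} := by
  have hmul : ∀ (r : ℕ) (b : G) {z : MonoidAlgebra ℤ G},
      z ∈ AddSubgroup.closure {y | ∃ (a : G) (g : Fin r → G), y = o a * ∏ i, (1 - o (g i))} →
      o b * z ∈ AddSubgroup.closure {y | ∃ (a : G) (g : Fin r → G), y = o a * ∏ i, (1 - o (g i))} := by
    intro r b z hz
    induction hz using AddSubgroup.closure_induction with
    | mem y hy =>
      obtain ⟨a, g, rfl⟩ := hy
      exact AddSubgroup.subset_closure ⟨b * a, g, by rw [o_mul, mul_assoc]⟩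
    | zero => rw [mul_zero]; exact AddSubgroup.zero_mem _
    | add x y _ _ hx hy => rw [mul_add]; exact AddSubgroup.add_mem _ hx hy
    | neg x _ hx => rw [mul_neg]; exact AddSubgroup.neg_mem _ hx
  have hmul' : ∀ (r : ℕ) (y z : MonoidAlgebra ℤ G),
      z ∈ AddSubgroup.closure {y | ∃ (a : G) (g : Fin r → G), y = o a * ∏ i, (1 - o (g i))} →
      y * z ∈ AddSubgroup.closure {y | ∃ (a : G) (g : Fin r → G), y = o a * ∏ i, (1 - o (g i))} := by
    intro r y z hz
    induction y using MonoidAlgebra.induction_on with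
    | of g => exact hmul r g hz
    | add x y hx hy => rw [add_mul]; exact AddSubgroup.add_mem _ hx hy
    | smul n x hx =>
      rw [smul_mul_assoc]
      exact AddSubgroup.zsmul_mem _ hx n
  induction r generalizing x with
  | zero =>
    have h1 : (1 : MonoidAlgebra ℤ G) ∈
        AddSubgroup.closure {y | ∃ (a : G) (g : Fin 0 → G), y = o a * ∏ i, (1 - o (g i))} :=
      AddSubgroup.subset_closure ⟨1, Fin.elim0, by rw [Fin.prod_univ_zero, o_one, one_mul]⟩
    have := hmul' 0 x 1 h1
    rwa [mul_one] at this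
  | succ r ih =>
    rw [pow_succ'] at hx
    refine Submodule.mul_induction_on hx ?_ fun x y hx hy => AddSubgroup.add_mem _ hx hy
    intro u hu v hv
    have hv' := ih hv
    clear hv
    -- `u` is in the span of the generators
    refine Submodule.span_induction (p := fun u _ => u * v ∈ AddSubgroup.closure
      {y | ∃ (a : G) (g : Fin (r + 1) → G), y = o a * ∏ i, (1 - o (g i))}) ?_ ?_ ?_ ?_ hu
    · rintro _ ⟨b, rfl⟩
      induction hv' using AddSubgroup.closure_induction with
      | mem y hy =>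
        obtain ⟨a, g, rfl⟩ := hy
        refine AddSubgroup.subset_closure ⟨a, Fin.cons b g, ?_⟩
        rw [Fin.prod_univ_succ]
        simp only [Fin.cons_zero, Fin.cons_succ]
        ring
      | zero => rw [mul_zero]; exact AddSubgroup.zero_mem _
      | add x y _ _ hx hy => rw [mul_add]; exact AddSubgroup.add_mem _ hx hy
      | neg x _ hx => rw [mul_neg]; exact AddSubgroup.neg_mem _ hx
    · rw [zero_mul]; exact AddSubgroup.zero_mem _
    · intro x y _ _ hx hy
      rw [add_mul]
      exact AddSubgroup.add_mem _ hx hy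
    · intro a x _ hx
      rw [smul_eq_mul, mul_assoc]
      exact hmul' _ _ _ hx

/-- vanishing of the extension on a power of the augmentation ideal -/
theorem lin_eq_zero {φ : G → ℤ} {m : ℕ} (h : ∀ r, m ≤ r → ∀ g : Fin r → G, dSum φ g = 0)
    {x : MonoidAlgebra ℤ G} (hx : x ∈ aug G ^ m) : lin φ x = 0 := by
  have h1 := mem_pow_closure m hx
  clear hx
  induction h1 using AddSubgroup.closure_induction with
  | mem y hy =>
    obtain ⟨a, g, rfl⟩ := hy
    have e : o a * ∏ i, (1 - o (g i)) = ∏ i, (1 - o (g i)) -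
        ∏ i, (1 - o ((Fin.cons a g : Fin (m + 1) → G) i)) := by
      rw [Fin.prod_univ_succ (fun i => (1 - o ((Fin.cons a g : Fin (m + 1) → G) i)))]
      simp only [Fin.cons_zero, Fin.cons_succ]
      ring
    rw [e, map_sub, lin_prod, lin_prod, h m le_rfl, h (m + 1) (Nat.le_succ m), sub_zero]
  | zero => exact map_zero _
  | add x y _ _ hx' hy' =>
    rw [map_add, hx', hy', add_zero]
  | neg x _ hx => rw [map_neg, hx, neg_zero]

theorem pow_sub_pow_mem {y z : MonoidAlgebra ℤ G} (hy : y ∈ aug G) (hz : z ∈ aug G ^ 2) (m : ℕ) :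
    (y + z) ^ m - y ^ m ∈ aug G ^ (m + 1) := by
  have hz1 : z ∈ aug G := Ideal.pow_le_self two_ne_zero hz
  induction m with
  | zero => rw [pow_zero, pow_zero, sub_self]; exact Ideal.zero_mem _
  | succ m ih =>
    have e : (y + z) ^ (m + 1) - y ^ (m + 1) = (y + z) * ((y + z) ^ m - y ^ m) + z * y ^ m := by ring
    rw [e]
    refine Ideal.add_mem _ ?_ ?_
    · rw [pow_succ' (aug G) (m + 1)]
      exact Ideal.mul_mem_mul (Ideal.add_mem _ hy hz1) ih
    · rw [show m + 1 + 1 = 2 + m by ring, pow_add]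
      exact Ideal.mul_mem_mul hz (Ideal.pow_mem_pow hy m)

theorem lin_pow_congr {φ : G → ℤ} {m : ℕ} (h : ∀ r, m + 1 ≤ r → ∀ g : Fin r → G, dSum φ g = 0)
    {y z : MonoidAlgebra ℤ G} (hy : y ∈ aug G) (hz : z ∈ aug G ^ 2) :
    lin φ ((y + z) ^ m) = lin φ (y ^ m) := by
  rw [← sub_eq_zero, ← map_sub]
  exact lin_eq_zero h (pow_sub_pow_mem hy hz m)

theorem dSum_const (φ : G → ℤ) (a : G) (m : ℕ) : dSum φ (fun _ : Fin m => a) = lin φ ((1 - o a) ^ m) := by
  rw [← lin_prod, Fin.prod_const]

theorem dSum_append (φ : G → ℤ) (a b : G) (i j : ℕ) :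
    dSum φ (Fin.append (fun _ : Fin i => a) (fun _ : Fin j => b)) = lin φ ((1 - o a) ^ i * (1 - o b) ^ j) := by
  rw [← lin_prod, Fin.prod_univ_add]
  simp only [Fin.append_left, Fin.append_right, Fin.prod_const]

/-- the class of a product -/
theorem one_sub_mul_eq (a b : G) : ∃ z ∈ aug G ^ 2, 1 - o (a * b) = ((1 - o a) + (1 - o b)) + z := by
  refine ⟨-((1 - o a) * (1 - o b)), Ideal.neg_mem_iff _ |>.2 ?_, ?_⟩
  · rw [pow_two]
    exact Ideal.mul_mem_mul (one_sub_mem a) (one_sub_mem b)
  · rw [o_mul]; ring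

theorem one_sub_pow_eq (a : G) (e : ℕ) : ∃ z ∈ aug G ^ 2, 1 - o (a ^ e) = e • (1 - o a) + z := by
  induction e with
  | zero => exact ⟨0, Ideal.zero_mem _, by rw [pow_zero, o_one, sub_self, zero_smul, add_zero]⟩
  | succ e ih =>
    obtain ⟨z, hz, h⟩ := ih
    obtain ⟨w, hw, h'⟩ := one_sub_mul_eq (a ^ e) a
    refine ⟨z + w, Ideal.add_mem _ hz hw, ?_⟩
    rw [pow_succ, h', h, succ_nsmul]
    ring

/-- **binomial theorem for mixed differences** -/
theorem dSum_mul {φ : G → ℤ} {m : ℕ} (h : ∀ r, m + 1 ≤ r → ∀ g : Fin r → G, dSum φ g = 0) (a b : G) :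
    dSum φ (fun _ : Fin m => a * b) =
      ∑ i ∈ Finset.range (m + 1), (m.choose i : ℤ) *
        dSum φ (Fin.append (fun _ : Fin i => a) (fun _ : Fin (m - i) => b)) := by
  obtain ⟨z, hz, e⟩ := one_sub_mul_eq a b
  rw [dSum_const, e, lin_pow_congr h (Ideal.add_mem _ (one_sub_mem a) (one_sub_mem b)) hz, add_pow, map_sum]
  refine Finset.sum_congr rfl fun i _ => ?_
  rw [dSum_append, mul_comm (_ * _) (_ : MonoidAlgebra ℤ G), ← nsmul_eq_mul, map_nsmul, nsmul_eq_mul]

/-- powers -/
theorem dSum_pow {φ : G → ℤ} {m : ℕ} (h : ∀ r, m + 1 ≤ r → ∀ g : Fin r → G, dSum φ g = 0) (a : G) (e : ℕ) :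
    dSum φ (fun _ : Fin m => a ^ e) = (e : ℤ) ^ m * dSum φ (fun _ : Fin m => a) := by
  obtain ⟨z, hz, h'⟩ := one_sub_pow_eq a e
  have h1 : e • (1 - o a) ∈ aug G := by
    rw [nsmul_eq_mul]
    exact Ideal.mul_mem_left _ _ (one_sub_mem a)
  rw [dSum_const, h', lin_pow_congr h h1 hz, smul_pow, map_nsmul, dSum_const, nsmul_eq_mul]
  push_cast
  rfl

theorem dSum_comp_hom {H : Type*} [CommMonoid H] (f : H →* G) (φ : G → ℤ) {r : ℕ} (g : Fin r → H) :
    dSum φ (fun i => f (g i)) = dSum (fun x => φ (f x)) g := by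
  unfold dSum
  refine Finset.sum_congr rfl fun I _ => ?_
  simp only [map_prod]

end K711.AugPoly
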