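import Groth.Agent.S1955
import Groth.Agent.S1956
import Groth.Agent.CycB.K0Main
import Groth.Agent.CycB.CycleSheaf

/-!
# Additive functions of coherent modules as functions of cycles

An integer-valued function `φ` of coherent modules with support of dimension `≤ m + 1` which is additive in short exact
sequences and kills the modules with support of dimension `≤ m - 1` induces an additive function `num φ` of the
`m`-cycles, which kills the cycles rationally equivalent to zero and has `num φ [F]_m = φ F`.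
-/

set_option autoImplicit false
universe u

open CategoryTheory CategoryTheory.Limits AlgebraicGeometry

namespace K711.CycFun

open Groth.Agent.CycB Groth.Agent.CycB.CycleSheaf Groth.Agent.CycB.K0Main

variable {X : Scheme.{u}} {δ : X → ℤ} {m : ℤ}

theorem suppFin (α : AlgebraicCycle X ℤ) : ∀ z : X, ∃ t ∈ nhds z, (t ∩ Function.support ⇑α).Finite := fun z =>
  α.supportLocallyFiniteWithinDomain z (Set.mem_univ _)

/-- the class of a cycle -/
noncomputable def kap (δ : X → ℤ) (m : ℤ) (α : X → ℤ) : Cyc.K0CohQuot δ m (m - 1) :=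
  Cyc.toK0CohQuot δ m (m - 1) (Cyc.cycleSheafPos α) - Cyc.toK0CohQuot δ m (m - 1) (Cyc.cycleSheafNeg α)

theorem cohLe_pos (hX : Cyc.IsSetup X δ) {α : AlgebraicCycle X ℤ} (hα : α ∈ Cyc.Zk X δ m) :
    Cyc.CohLe δ m (Cyc.cycleSheafPos ⇑α) :=
  cohLe_cycleSheafPos hX α (suppFin α) hα

theorem cohLe_neg (hX : Cyc.IsSetup X δ) {α : AlgebraicCycle X ℤ} (hα : α ∈ Cyc.Zk X δ m) :
    Cyc.CohLe δ m (Cyc.cycleSheafNeg ⇑α) := by
  refine cohLe_cycleSheafPos hX (-⇑α) (fun z => ?_) (fun x hx => ?_)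
  · obtain ⟨t, ht, h⟩ := suppFin α z
    refine ⟨t, ht, h.subset fun y hy => ⟨hy.1, fun h0 => hy.2 ?_⟩⟩
    simp [h0]
  · simp [hα x hx]

/-- the image of `kap` under the comparison of S1955 -/
theorem psi_kap (hX : Cyc.IsSetup X δ) {ψ : Cyc.K0CohQuot δ m (m - 1) →+ (X → ℤ)}
    (hψ : ∀ F : X.Modules, Cyc.CohLe δ m F → ψ (Cyc.toK0CohQuot δ m (m - 1) F) = Cyc.sheafFun δ m F)
    {α : AlgebraicCycle X ℤ} (hα : α ∈ Cyc.Zk X δ m) : ψ (kap δ m ⇑α) = ⇑α := by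
  unfold kap
  rw [map_sub, hψ _ (cohLe_pos hX hα), hψ _ (cohLe_neg hX hα), sheafFun_pos_sub_neg hX α hα]

theorem zk_add {α β : AlgebraicCycle X ℤ} (hα : α ∈ Cyc.Zk X δ m) (hβ : β ∈ Cyc.Zk X δ m) :
    α + β ∈ Cyc.Zk X δ m := fun x hx => by
  rw [Function.locallyFinsuppWithin.coe_add, Pi.add_apply, hα x hx, hβ x hx, add_zero]

theorem zk_zero : (0 : AlgebraicCycle X ℤ) ∈ Cyc.Zk X δ m := fun _ _ => rfl

theorem zk_neg {α : AlgebraicCycle X ℤ} (hα : α ∈ Cyc.Zk X δ m) : -α ∈ Cyc.Zk X δ m := fun x hx => by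
  rw [Function.locallyFinsuppWithin.coe_neg, Pi.neg_apply, hα x hx, neg_zero]

theorem zk_sub {α β : AlgebraicCycle X ℤ} (hα : α ∈ Cyc.Zk X δ m) (hβ : β ∈ Cyc.Zk X δ m) :
    α - β ∈ Cyc.Zk X δ m := by
  rw [sub_eq_add_neg]
  exact zk_add hα (zk_neg hβ)

theorem zk_zsmul {α : AlgebraicCycle X ℤ} (hα : α ∈ Cyc.Zk X δ m) (n : ℤ) : n • α ∈ Cyc.Zk X δ m := fun x hx => by
  rw [Function.locallyFinsuppWithin.coe_zsmul, Pi.smul_apply, hα x hx, smul_zero]

theorem zk_sum {ι : Type*} (s : Finset ι) (α : ι → AlgebraicCycle X ℤ) (hα : ∀ i ∈ s, α i ∈ Cyc.Zk X δ m) :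
    ∑ i ∈ s, α i ∈ Cyc.Zk X δ m := by
  classical
  induction s using Finset.induction_on with
  | empty => rw [Finset.sum_empty]; exact zk_zero
  | insert a s ha ih =>
    rw [Finset.sum_insert ha]
    exact zk_add (hα a (Finset.mem_insert_self _ _)) (ih fun i hi => hα i (Finset.mem_insert_of_mem hi))

theorem kap_add (hX : Cyc.IsSetup X δ) {α β : AlgebraicCycle X ℤ} (hα : α ∈ Cyc.Zk X δ m)
    (hβ : β ∈ Cyc.Zk X δ m) : kap δ m ⇑(α + β) = kap δ m ⇑α + kap δ m ⇑β := by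
  obtain ⟨ψ, h1, h2, -⟩ := Groth.Agent.S1955.result X δ hX m
  apply h2
  rw [map_add, psi_kap hX h1 hα, psi_kap hX h1 hβ, psi_kap hX h1 (zk_add hα hβ)]
  rfl

theorem kap_of_sheaf (hX : Cyc.IsSetup X δ) {F : X.Modules} (hF : Cyc.CohLe δ m F) {α : AlgebraicCycle X ℤ}
    (hα : ⇑α = Cyc.sheafFun δ m F) : kap δ m ⇑α = Cyc.toK0CohQuot δ m (m - 1) F := by
  obtain ⟨ψ, h1, h2, -⟩ := Groth.Agent.S1955.result X δ hX m
  apply h2
  have hα' : α ∈ Cyc.Zk X δ m := fun x hx => by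
    rw [show α x = (⇑α) x from rfl, hα]
    exact sheafFun_of_ne F hx
  rw [psi_kap hX h1 hα', h1 F hF, hα]

/-- The condition on a function of coherent modules to induce a function of `m`-cycles modulo rational
equivalence. -/
structure IsCycFun (δ : X → ℤ) (m : ℤ) (φ : X.Modules → ℤ) : Prop where
  add : ∀ T : ShortComplex X.Modules, T.ShortExact → Cyc.CohLe δ (m + 1) T.X₁ → Cyc.CohLe δ (m + 1) T.X₂ →
    Cyc.CohLe δ (m + 1) T.X₃ → φ T.X₂ = φ T.X₁ + φ T.X₃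
  van : ∀ F, Cyc.CohLe δ (m - 1) F → φ F = 0

/-- the function of cycles induced by `φ` -/
noncomputable def num (φ : X.Modules → ℤ) (α : AlgebraicCycle X ℤ) : ℤ :=
  φ (Cyc.cycleSheafPos ⇑α) - φ (Cyc.cycleSheafNeg ⇑α)

variable {φ : X.Modules → ℤ}

theorem cohLe_mono {a a' : ℤ} (h : a ≤ a') {F : X.Modules} (hF : Cyc.CohLe δ a F) : Cyc.CohLe δ a' F :=
  ⟨hF.1, fun x hx => (hF.2 x hx).trans h⟩

theorem IsCycFun.exists_lift (hφ : IsCycFun δ m φ) : ∃ L : Cyc.K0CohQuot δ m (m - 1) →+ ℤ,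
    ∀ F, Cyc.CohLe δ m F → L (Cyc.toK0CohQuot δ m (m - 1) F) = φ F :=
  K0Main.exists_lift φ (fun T hT h1 h2 h3 => hφ.add T hT (cohLe_mono (by omega) h1)
    (cohLe_mono (by omega) h2) (cohLe_mono (by omega) h3)) fun F _ hF => hφ.van F hF

theorem IsCycFun.exists_lift' (hφ : IsCycFun δ m φ) : ∃ L : Cyc.K0CohQuot δ (m + 1) (m - 1) →+ ℤ,
    ∀ F, Cyc.CohLe δ (m + 1) F → L (Cyc.toK0CohQuot δ (m + 1) (m - 1) F) = φ F :=
  K0Main.exists_lift φ (fun T hT h1 h2 h3 => hφ.add T hT h1 h2 h3) fun F _ hF => hφ.van F hF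

theorem num_eq_lift (hX : Cyc.IsSetup X δ) {L : Cyc.K0CohQuot δ m (m - 1) →+ ℤ}
    (hL : ∀ F, Cyc.CohLe δ m F → L (Cyc.toK0CohQuot δ m (m - 1) F) = φ F) {α : AlgebraicCycle X ℤ}
    (hα : α ∈ Cyc.Zk X δ m) : num φ α = L (kap δ m ⇑α) := by
  unfold num kap
  rw [map_sub, hL _ (cohLe_pos hX hα), hL _ (cohLe_neg hX hα)]

theorem num_add (hX : Cyc.IsSetup X δ) (hφ : IsCycFun δ m φ) {α β : AlgebraicCycle X ℤ}
    (hα : α ∈ Cyc.Zk X δ m) (hβ : β ∈ Cyc.Zk X δ m) : num φ (α + β) = num φ α + num φ β := by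
  obtain ⟨L, hL⟩ := hφ.exists_lift
  rw [num_eq_lift hX hL (zk_add hα hβ), num_eq_lift hX hL hα, num_eq_lift hX hL hβ, kap_add hX hα hβ,
    map_add]

theorem num_zero (hX : Cyc.IsSetup X δ) (hφ : IsCycFun δ m φ) : num φ (0 : AlgebraicCycle X ℤ) = 0 := by
  have := num_add hX hφ (zk_zero (X := X) (δ := δ) (m := m)) zk_zero
  rw [add_zero] at this
  omega

theorem num_neg (hX : Cyc.IsSetup X δ) (hφ : IsCycFun δ m φ) {α : AlgebraicCycle X ℤ}
    (hα : α ∈ Cyc.Zk X δ m) : num φ (-α) = -num φ α := by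
  have := num_add hX hφ hα (zk_neg hα)
  rw [add_neg_cancel, num_zero hX hφ] at this
  omega

theorem num_sub (hX : Cyc.IsSetup X δ) (hφ : IsCycFun δ m φ) {α β : AlgebraicCycle X ℤ}
    (hα : α ∈ Cyc.Zk X δ m) (hβ : β ∈ Cyc.Zk X δ m) : num φ (α - β) = num φ α - num φ β := by
  rw [sub_eq_add_neg, num_add hX hφ hα (zk_neg hβ), num_neg hX hφ hβ, sub_eq_add_neg]

/-- `num` as a homomorphism on the group of `m`-cycles -/
noncomputable def zkGroup (X : Scheme.{u}) (δ : X → ℤ) (m : ℤ) : AddSubgroup (AlgebraicCycle X ℤ) where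
  carrier := Cyc.Zk X δ m
  add_mem' := zk_add
  zero_mem' := zk_zero
  neg_mem' := zk_neg

noncomputable def numHom (hX : Cyc.IsSetup X δ) (hφ : IsCycFun δ m φ) : zkGroup X δ m →+ ℤ where
  toFun α := num φ α.1
  map_zero' := num_zero hX hφ
  map_add' α β := num_add hX hφ α.2 β.2

theorem num_zsmul (hX : Cyc.IsSetup X δ) (hφ : IsCycFun δ m φ) {α : AlgebraicCycle X ℤ}
    (hα : α ∈ Cyc.Zk X δ m) (n : ℤ) : num φ (n • α) = n * num φ α := by
  have := map_zsmul (numHom hX hφ) n ⟨α, hα⟩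
  rw [smul_eq_mul] at this
  exact this

theorem num_sum (hX : Cyc.IsSetup X δ) (hφ : IsCycFun δ m φ) {ι : Type*} (s : Finset ι)
    (α : ι → AlgebraicCycle X ℤ) (hα : ∀ i ∈ s, α i ∈ Cyc.Zk X δ m) :
    num φ (∑ i ∈ s, α i) = ∑ i ∈ s, num φ (α i) := by
  classical
  induction s using Finset.induction_on with
  | empty => rw [Finset.sum_empty, Finset.sum_empty]; exact num_zero hX hφ
  | insert a s ha ih =>
    rw [Finset.sum_insert ha, Finset.sum_insert ha,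
      num_add hX hφ (hα a (Finset.mem_insert_self _ _))
        (zk_sum s α fun i hi => hα i (Finset.mem_insert_of_mem hi)),
      ih fun i hi => hα i (Finset.mem_insert_of_mem hi)]

/-- the value on the cycle of a coherent module -/
theorem num_of_sheaf (hX : Cyc.IsSetup X δ) (hφ : IsCycFun δ m φ) {F : X.Modules} (hF : Cyc.CohLe δ m F)
    {α : AlgebraicCycle X ℤ} (hα : ⇑α = Cyc.sheafFun δ m F) : num φ α = φ F := by
  obtain ⟨L, hL⟩ := hφ.exists_lift
  have hα' : α ∈ Cyc.Zk X δ m := fun x hx => by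
    rw [show α x = (⇑α) x from rfl, hα]
    exact sheafFun_of_ne F hx
  rw [num_eq_lift hX hL hα', kap_of_sheaf hX hF hα, hL F hF]

/-- cycles rationally equivalent to zero have value `0` -/
theorem num_eq_zero (hX : Cyc.IsSetup X δ) (hφ : IsCycFun δ m φ) {α : AlgebraicCycle X ℤ}
    (hα : α ∈ Cyc.Zk X δ m) (h0 : Cyc.RatEquivZero δ m α) : num φ α = 0 := by
  obtain ⟨L, hL⟩ := hφ.exists_lift'
  have h1 := Groth.Agent.S1956.result X δ hX m α hα h0
  have h2 := congrArg L h1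
  rw [hL _ (cohLe_mono (by omega) (cohLe_pos hX hα)), hL _ (cohLe_mono (by omega) (cohLe_neg hX hα))] at h2
  unfold num
  rw [h2, sub_self]

theorem num_eq_of_ratEquiv (hX : Cyc.IsSetup X δ) (hφ : IsCycFun δ m φ) {α β : AlgebraicCycle X ℤ}
    (hα : α ∈ Cyc.Zk X δ m) (hβ : β ∈ Cyc.Zk X δ m) (h0 : Cyc.RatEquiv δ m α β) : num φ α = num φ β := by
  have := num_eq_zero hX hφ (zk_sub hα hβ) h0
  rw [num_sub hX hφ hα hβ] at this
  omega

end K711.CycFun
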