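import Groth.Agent.CycB.LineRT
import Groth.Agent.CycB.AffRT
import Groth.Agent.CycB.RatTransport
import Groth.Agent.CycB.LocQuot
import Groth.Agent.IntTh.K711.CycFun

/-!
# Rational equivalence on Noetherian schemes through finite sums of principal divisors
-/

set_option autoImplicit false
universe u

open CategoryTheory AlgebraicGeometry TopologicalSpace

namespace K711.FinRatCpt

open Groth.Agent.CycB Groth.Agent.CycB.FinRat

variable {X : Scheme.{u}} {δ : X → ℤ} {k : ℤ}

/-- a cycle whose coefficient function is a finite sum of principal divisors is rationally equivalent to zero -/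
theorem ratEquivZero_of_mem {α : AlgebraicCycle X ℤ} (h : ⇑α ∈ finRat δ k) : Cyc.RatEquivZero δ k α := by
  obtain ⟨ι, hι, ξ, g, h1, h2, h3⟩ := (mem_finRat_iff δ k _).1 h
  exact ⟨ι, ξ, g, h1, h2, fun x => ⟨Set.univ, isOpen_univ, Set.mem_univ x, Set.toFinite _⟩, h3⟩

theorem mem_of_ratEquivZero [CompactSpace X] {α : AlgebraicCycle X ℤ} (h : Cyc.RatEquivZero δ k α) :
    ⇑α ∈ finRat δ k := by
  obtain ⟨ι, ξ, g, h1, h2, h3, h4⟩ := h
  choose U hU hxU hfin using h3
  obtain ⟨t, ht⟩ := isCompact_univ.elim_finite_subcover U hU (fun x _ => Set.mem_iUnion.2 ⟨x, hxU x⟩)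
  have hι : Finite ι := by
    rw [← Set.finite_univ_iff]
    refine (t.finite_toSet.biUnion (fun x _ => hfin x)).subset fun i _ => ?_
    obtain ⟨x, hx⟩ := Set.mem_iUnion.1 (ht (Set.mem_univ (ξ i)))
    obtain ⟨hxt, hyx⟩ := Set.mem_iUnion.1 hx
    exact Set.mem_biUnion hxt ⟨ξ i, subset_closure (Set.mem_singleton _), hyx⟩
  exact (mem_finRat_iff δ k _).2 ⟨ι, hι, ξ, g, h1, h2, h4⟩

theorem ratEquivZero_iff [CompactSpace X] {α : AlgebraicCycle X ℤ} :
    Cyc.RatEquivZero δ k α ↔ ⇑α ∈ finRat δ k := ⟨mem_of_ratEquivZero, ratEquivZero_of_mem⟩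

theorem ratEquiv_iff [CompactSpace X] {α β : AlgebraicCycle X ℤ} :
    Cyc.RatEquiv δ k α β ↔ ⇑α - ⇑β ∈ finRat δ k := by
  unfold Cyc.RatEquiv
  rw [ratEquivZero_iff]
  rfl

theorem finite_support [CompactSpace X] (α : AlgebraicCycle X ℤ) : (Function.support ⇑α).Finite := by
  have h := CycFun.suppFin α
  choose t ht hfin using h
  obtain ⟨s, hs⟩ := isCompact_univ.elim_nhds_subcover t (fun x _ => ht x)
  refine (s.finite_toSet.biUnion (fun x _ => hfin x)).subset fun y hy => ?_
  obtain ⟨x, hx⟩ := Set.mem_iUnion.1 (hs.2 (Set.mem_univ y))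
  obtain ⟨hxs, hyx⟩ := Set.mem_iUnion.1 hx
  exact Set.mem_biUnion hxs ⟨hyx, hy⟩

/-- a function with finite support as a sum of indicator functions -/
theorem eq_sum_pt (c : X → ℤ) (s : Finset X) (hs : Function.support c ⊆ s) :
    c = ∑ w ∈ s, c w • pt w := by
  classical
  funext x
  rw [Finset.sum_apply]
  by_cases hx : x ∈ s
  · rw [Finset.sum_eq_single x]
    · rw [Pi.smul_apply, pt_self, smul_eq_mul, mul_one]
    · intro w _ hw
      rw [Pi.smul_apply, pt_of_ne (Ne.symm hw), smul_zero]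
    · intro h
      exact absurd hx h
  · have h0 : c x = 0 := by
      by_contra h
      exact hx (hs h)
    rw [h0, Finset.sum_eq_zero]
    intro w hw
    rw [Pi.smul_apply, pt_of_ne (fun h : x = w => hx (by rw [h]; exact hw)), smul_zero]

/-- Points of a scheme all of whose non-generic points are trivial. -/
theorem ratEquivZero_of_RT [CompactSpace X] (hRT : RT X) (hδ : Cyc.IsDimFun X δ) {α : AlgebraicCycle X ℤ}
    (hα : α ∈ Cyc.Zk X δ k) (h : ∀ x, α x ≠ 0 → ∃ w', w' ⤳ x ∧ w' ≠ x) : Cyc.RatEquivZero δ k α := by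
  refine ratEquivZero_of_mem ?_
  have hf := finite_support α
  rw [eq_sum_pt ⇑α hf.toFinset (by simp)]
  refine AddSubgroup.sum_mem _ fun w hw => AddSubgroup.zsmul_mem _ ?_ _
  have hw' : α w ≠ 0 := by simpa using hw
  have hwk : δ w = k := by
    by_contra hne
    exact hw' (hα w hne)
  rw [← hwk]
  exact hRT δ hδ w (h w hw')

section Uniqueness

/-- two dimension functions on a locally Noetherian irreducible scheme differ by a constant -/
theorem sub_eq_sub [IsLocallyNoetherian X] {δ δ' : X → ℤ} (hδ : Cyc.IsDimFun X δ) (hδ' : Cyc.IsDimFun X δ')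
    {x y : X} (h : x ⤳ y) : δ x - δ y = δ' x - δ' y := by
  have h1 := LocQuot.ringKrullDim_locQuot hδ h
  have h2 := LocQuot.ringKrullDim_locQuot hδ' h
  rw [h1] at h2
  have h3 : (δ x - δ y).toNat = (δ' x - δ' y).toNat := by exact_mod_cast h2
  have h4 : ∀ {d : X → ℤ}, Cyc.IsDimFun X d → 0 ≤ d x - d y := by
    intro d hd
    by_cases hxy : x = y
    · rw [hxy]; simp
    · have := (hd x y h hxy).1
      omega
  have h5 := h4 hδ
  have h6 := h4 hδ'
  omega

theorem isDimFun_add_const {δ : X → ℤ} (hδ : Cyc.IsDimFun X δ) (c : ℤ) : Cyc.IsDimFun X (fun x => δ x + c) :=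
  fun x y hxy hne => ⟨by have := (hδ x y hxy hne).1; simp only; omega, fun him => by
    have := (hδ x y hxy hne).2 him
    simp only; omega⟩

/-- Open subschemes of an irreducible scheme with `RT` (and a dimension function) have `RT`. -/
theorem RT_open [IsLocallyNoetherian X] {η : X} (hη : ∀ x : X, η ⤳ x) (hRT : RT X) {δ : X → ℤ}
    (hδ : Cyc.IsDimFun X δ) {F : Scheme.{u}} (i : F ⟶ X) [IsOpenImmersion i] : RT F := by
  intro δF hδF w hw
  have : IsLocallyNoetherian F := LocallyOfFiniteType.isLocallyNoetherian i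
  obtain ⟨w', hw', hne⟩ := hw
  -- the generic point of `F`
  obtain ⟨ηF, hηF⟩ : ∃ ηF : F, i ηF = η := by
    have := (hη (i w)).mem_open i.opensRange.2 ⟨w, rfl⟩
    exact this
  have hsp : ∀ x : F, ηF ⤳ x := fun x => by
    rw [← DivNat.specializes_iff i, hηF]
    exact hη _
  -- the extension of `δF`
  set c : ℤ := δF ηF - δ η with hc
  have hcomp : Cyc.IsDimFun F (fun z => δ (i z)) := isDimFun_comp i hδ fun x y z _ h2 => by
    exact h2.mem_open i.opensRange.2 ⟨y, rfl⟩
  have heq : δF = fun z => δ (i z) + c := by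
    funext z
    have h1 := sub_eq_sub hδF hcomp (hsp z)
    simp only [hηF] at h1
    omega
  have hδ' := isDimFun_add_const hδ c
  have h1 := hRT _ hδ' (i w) ⟨i w', hw'.map i.continuous, fun h => hne (i.isEmbedding.injective h)⟩
  obtain ⟨ι, hι, ξ, g, e1, e2, e3⟩ := (mem_finRat_iff _ _ _).1 h1
  have h2 : (fun z => pt (i w) (i z)) ∈ finRat (fun z => δ (i z) + c) (δ (i w) + c) := by
    -- restrict each principal divisor
    have := Fintype.ofFinite ι
    have e4 : (fun z => pt (i w) (i z)) = ∑ j, fun z => Cyc.divFun (fun x => δ x + c) (ξ j) (g j) (i z) := by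
      funext z
      rw [e3, finsum_eq_sum_of_fintype, Finset.sum_apply]
    rw [e4]
    refine AddSubgroup.sum_mem _ fun j _ => ?_
    by_cases hj : ξ j ∈ Set.range ⇑i
    · obtain ⟨ζ, g', hζ, hg', h⟩ := RatTransport.exists_lift i (fun x => δ x + c) (ξ j) hj (g j) (e2 j)
      have : (fun z => Cyc.divFun (fun x => δ x + c) (ξ j) (g j) (i z)) =
          Cyc.divFun (fun z => δ (i z) + c) ζ g' := by
        funext z
        exact (h z).symm
      rw [this]
      refine divFun_mem _ ?_ hg'
      rw [← e1 j, ← hζ]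
    · have : (fun z => Cyc.divFun (fun x => δ x + c) (ξ j) (g j) (i z)) = 0 := by
        funext z
        unfold Cyc.divFun
        rw [dif_neg]
        · rfl
        · rintro ⟨h, -⟩
          exact hj (h.mem_open i.opensRange.2 ⟨z, rfl⟩)
      rw [this]
      exact AddSubgroup.zero_mem _
  have h3 : (fun z => pt (i w) (i z)) = pt w := by
    funext z
    by_cases hz : z = w
    · subst hz
      rw [pt_self, pt_self]
    · rw [pt_of_ne hz, pt_of_ne fun h => hz (i.isEmbedding.injective h)]
  rw [h3] at h2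
  rw [heq]
  exact h2

end Uniqueness

end K711.FinRatCpt
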