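import Groth.Prelude.Def_LefPen
import Groth.Agent.Sga5.ProjSurj
import Mathlib.LinearAlgebra.Basis.VectorSpace
import Mathlib.LinearAlgebra.FreeModule.Finite.Basic
import Mathlib.LinearAlgebra.Dimension.DivisionRing
import Mathlib.LinearAlgebra.Dimension.Free

/-!
# Linear substitutions of homogeneous coordinates

For linearly independent linear forms `ℓ : ι → Form n k 1` with `card ι + m = n` a graded surjection
`k[x_0..x_n] → k[y_0..y_m]` with kernel generated by the `ℓ i`.
-/

set_option autoImplicit false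
universe u

open MvPolynomial LefPen

namespace K711.LinAlg

variable {n m : ℕ} {k : Type u} [Field k]

section Ext

variable {σ : Type*}

/-- the algebra homomorphism determined by a linear map on linear forms -/
noncomputable def ext (f : Form n k 1 →ₗ[k] MvPolynomial σ k) :
    MvPolynomial (Fin (n + 1)) k →ₐ[k] MvPolynomial σ k :=
  aeval fun i => f ⟨X i, X_mem n k i⟩

theorem span_X : (⊤ : Submodule k (Form n k 1)) ≤
    Submodule.span k (Set.range fun i : Fin (n + 1) => (⟨X i, X_mem n k i⟩ : Form n k 1)) := by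
  rintro ⟨L, hL⟩ -
  have h : L ∈ Submodule.span k (Set.range (X : Fin (n + 1) → MvPolynomial (Fin (n + 1)) k)) := by
    rw [← homogeneousSubmodule_one_eq_span_X]
    exact hL
  have hle : Submodule.span k (Set.range (X : Fin (n + 1) → MvPolynomial (Fin (n + 1)) k)) ≤
      (Submodule.span k (Set.range fun i : Fin (n + 1) => (⟨X i, X_mem n k i⟩ : Form n k 1))).map
        (Submodule.subtype (homogeneousSubmodule (Fin (n + 1)) k 1)) := by
    rw [Submodule.span_le]
    rintro _ ⟨i, rfl⟩
    exact ⟨⟨X i, X_mem n k i⟩, Submodule.subset_span ⟨i, rfl⟩, rfl⟩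
  obtain ⟨y, hy, hy'⟩ := hle h
  have : y = ⟨L, hL⟩ := Subtype.ext hy'
  rwa [this] at hy

theorem span_X_eq : Submodule.span k (Set.range fun i : Fin (n + 1) => (⟨X i, X_mem n k i⟩ : Form n k 1)) = ⊤ :=
  top_le_iff.1 span_X

theorem ext_apply (f : Form n k 1 →ₗ[k] MvPolynomial σ k) (L : Form n k 1) : ext f L.1 = f L := by
  have h : (ext f).toLinearMap ∘ₗ (Submodule.subtype (homogeneousSubmodule (Fin (n + 1)) k 1)) = f := by
    refine LinearMap.ext_on span_X_eq ?_
    rintro _ ⟨i, rfl⟩
    exact aeval_X _ _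
  exact congr($h L)

theorem ext_isHomogeneous (f : Form n k 1 →ₗ[k] MvPolynomial σ k) (hf : ∀ L, (f L).IsHomogeneous 1) {d : ℕ}
    {p : MvPolynomial (Fin (n + 1)) k} (hp : p.IsHomogeneous d) : (ext f p).IsHomogeneous d := by
  have h := hp.aeval (fun i => f ⟨X i, X_mem n k i⟩) (n := 1) (fun i => hf _)
  rwa [one_mul] at h

end Ext

section Basis

/-- the coordinates as a basis of the linear forms -/
noncomputable def basisX (n : ℕ) (k : Type u) [Field k] : Module.Basis (Fin (n + 1)) k (Form n k 1) :=
  Module.Basis.mk (v := fun i : Fin (n + 1) => (⟨X i, X_mem n k i⟩ : Form n k 1)) (by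
    have h : LinearIndependent k (fun i : Fin (n + 1) => (X i : MvPolynomial (Fin (n + 1)) k)) := by
      have h1 := (basisMonomials (Fin (n + 1)) k).linearIndependent.comp
        (fun i : Fin (n + 1) => Finsupp.single i 1) (fun i j h => by
          simpa using (Finsupp.single_left_inj (one_ne_zero)).1 h)
      rw [coe_basisMonomials] at h1
      exact h1
    exact LinearIndependent.of_comp (Submodule.subtype (homogeneousSubmodule (Fin (n + 1)) k 1)) h) span_X

theorem finrank_form : Module.finrank k (Form n k 1) = n + 1 := by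
  rw [Module.finrank_eq_card_basis (basisX n k), Fintype.card_fin]

variable {ι : Type} [Fintype ι] {ℓ : ι → Form n k 1}

omit [Fintype ι] in
/-- completion to a basis -/
theorem exists_basis_gen [Fintype ι] {V : Type*} [AddCommGroup V] [Module k V] [Module.Finite k V] {v : ι → V}
    (hv : LinearIndependent k v) (hc : Fintype.card ι + (m + 1) = Module.finrank k V) :
    ∃ b : Module.Basis (ι ⊕ Fin (m + 1)) k V, ∀ i, b (Sum.inl i) = v i := by
  obtain ⟨W', hW'⟩ := Submodule.exists_isCompl (Submodule.span k (Set.range v))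
  have h1 : Module.finrank k (Submodule.span k (Set.range v)) = Fintype.card ι := by
    rw [Module.finrank_eq_card_basis (Module.Basis.span hv)]
  have h2 := Submodule.finrank_add_eq_of_isCompl hW'
  rw [h1, ← hc] at h2
  have h3 : Module.finrank k W' = m + 1 := by omega
  refine ⟨((Module.Basis.span hv).prod (Module.finBasisOfFinrankEq k W' h3)).map
    (Submodule.prodEquivOfIsCompl _ _ hW'), fun i => ?_⟩
  simp [Module.Basis.map_apply, Module.Basis.prod_apply, Module.Basis.span_apply]

theorem exists_basis (hℓ : LinearIndependent k ℓ) (hc : Fintype.card ι + m = n) :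
    ∃ b : Module.Basis (ι ⊕ Fin (m + 1)) k (Form n k 1), ∀ i, b (Sum.inl i) = ℓ i := by
  have hfin : Module.Finite k (Form n k 1) := Module.Finite.of_basis (basisX n k)
  exact exists_basis_gen hℓ (by rw [finrank_form]; omega)

end Basis

section Main

set_option linter.unusedSectionVars false

variable {ι : Type} [Fintype ι] {ℓ : ι → Form n k 1} (b : Module.Basis (ι ⊕ Fin (m + 1)) k (Form n k 1))

/-- the substitution killing the first part of the basis -/
noncomputable def φ : MvPolynomial (Fin (n + 1)) k →ₐ[k] MvPolynomial (Fin (m + 1)) k :=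
  ext (b.constr k (Sum.elim (fun _ => 0) X))

/-- the section -/
noncomputable def s : MvPolynomial (Fin (m + 1)) k →ₐ[k] MvPolynomial (Fin (n + 1)) k :=
  aeval fun j => (b (Sum.inr j)).1

theorem φ_inl (i : ι) : φ b (b (Sum.inl i)).1 = 0 := by
  rw [φ, ext_apply, Module.Basis.constr_basis]
  rfl

theorem φ_inr (j : Fin (m + 1)) : φ b (b (Sum.inr j)).1 = X j := by
  rw [φ, ext_apply, Module.Basis.constr_basis]
  rfl

theorem φ_s (p : MvPolynomial (Fin (m + 1)) k) : φ b (s b p) = p := by
  have : (φ b).comp (s b) = AlgHom.id k _ := by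
    refine algHom_ext fun j => ?_
    rw [AlgHom.comp_apply, s, aeval_X, φ_inr]
    rfl
  exact congr($this p)

theorem φ_isHomogeneous {d : ℕ} {p : MvPolynomial (Fin (n + 1)) k} (hp : p.IsHomogeneous d) :
    (φ b p).IsHomogeneous d := by
  refine ext_isHomogeneous _ (fun L => ?_) hp
  rw [Module.Basis.constr_apply]
  refine IsHomogeneous.sum _ _ _ fun i _ => ?_
  rcases i with i | j
  · simp only [Sum.elim_inl, smul_zero]
    exact isHomogeneous_zero _ _ _
  · simp only [Sum.elim_inr]
    rw [smul_eq_C_mul]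
    simpa using (isHomogeneous_C (Fin (m + 1)) _).mul (isHomogeneous_X k j)

theorem s_isHomogeneous {d : ℕ} {p : MvPolynomial (Fin (m + 1)) k} (hp : p.IsHomogeneous d) :
    (s b p).IsHomogeneous d := by
  have h := hp.aeval (fun j => (b (Sum.inr j)).1) (n := 1) (fun j => (b (Sum.inr j)).2)
  rwa [one_mul] at h

theorem sub_mem (p : MvPolynomial (Fin (n + 1)) k) :
    p - s b (φ b p) ∈ Ideal.span (Set.range fun i : ι => (b (Sum.inl i)).1) := by
  set J := Ideal.span (Set.range fun i : ι => (b (Sum.inl i)).1) with hJ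
  rw [← Ideal.Quotient.eq_zero_iff_mem, map_sub, sub_eq_zero]
  have h : Ideal.Quotient.mkₐ k J = (Ideal.Quotient.mkₐ k J).comp ((s b).comp (φ b)) := by
    refine algHom_ext fun i => ?_
    have hX : (X i : MvPolynomial (Fin (n + 1)) k) = ∑ j, (b.repr ⟨X i, X_mem n k i⟩ j) • (b j).1 := by
      have := congrArg (Submodule.subtype (homogeneousSubmodule (Fin (n + 1)) k 1)) (b.sum_repr ⟨X i, X_mem n k i⟩).symm
      rw [map_sum] at this
      exact this
    rw [hX, map_sum, map_sum]
    refine Finset.sum_congr rfl fun j _ => ?_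
    rw [map_smul, map_smul]
    congr 1
    rcases j with j | j
    · have h1 : Ideal.Quotient.mkₐ k J (b (Sum.inl j)).1 = 0 :=
        Ideal.Quotient.eq_zero_iff_mem.2 (Ideal.subset_span ⟨j, rfl⟩)
      rw [h1, AlgHom.comp_apply, AlgHom.comp_apply, φ_inl, map_zero, map_zero]
    · rw [AlgHom.comp_apply, AlgHom.comp_apply, φ_inr, s, aeval_X]
  exact congr($h p)

theorem ker_φ : RingHom.ker (φ b) = Ideal.span (Set.range fun i : ι => (b (Sum.inl i)).1) := by
  apply le_antisymm
  · intro p hp
    have h := sub_mem b p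
    rwa [show φ b p = 0 from hp, map_zero, sub_zero] at h
  · rw [Ideal.span_le]
    rintro _ ⟨i, rfl⟩
    exact φ_inl b i

/-- the graded homomorphism -/
noncomputable def φG : CohB1.polyGrading n k →+*ᵍ CohB1.polyGrading m k where
  toRingHom := (φ b : MvPolynomial (Fin (n + 1)) k →+* MvPolynomial (Fin (m + 1)) k)
  map_mem := fun {_ _} hx => φ_isHomogeneous b hx

theorem φG_apply (p : MvPolynomial (Fin (n + 1)) k) : φG b p = φ b p := rfl

theorem degSurj : Groth.Agent.Sga5.ProjSurj.DegSurj (φG b) := by
  intro i p hp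
  exact ⟨s b p, s_isHomogeneous b hp, φ_s b p⟩

end Main

end K711.LinAlg
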