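import Groth.Agent.IntTh.K711.KunChi
import Groth.Agent.Ega3B.PullTensor

/-!
# Intersection numbers on a product of two proper schemes
-/

set_option autoImplicit false
universe u
open CategoryTheory CategoryTheory.Limits AlgebraicGeometry Groth.Agent
open Groth.Agent.Fga.PicMon Groth.Agent.Fga.HodgeCore Groth.Agent.Fga.AltSum

namespace K711.ProdNum

section Alg

variable {G G₁ G₂ : Type*} [CommMonoid G] [CommMonoid G₁] [CommMonoid G₂]

open AugPoly

theorem mapDomain_o (u : G₁ →* G) (a : G₁) : MonoidAlgebra.mapDomainRingHom ℤ u (o a) = o (u a) := by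
  unfold o
  simp

theorem lin_mul (u : G₁ →* G) (v : G₂ →* G) (φ : G → ℤ) (f : G₁ → ℤ) (g : G₂ → ℤ)
    (h : ∀ a b, φ (u a * v b) = f a * g b) (x : MonoidAlgebra ℤ G₁) (y : MonoidAlgebra ℤ G₂) :
    lin φ (MonoidAlgebra.mapDomainRingHom ℤ u x * MonoidAlgebra.mapDomainRingHom ℤ v y) = lin f x * lin g y := by
  induction x using MonoidAlgebra.induction_on with
  | of a =>
    induction y using MonoidAlgebra.induction_on with
    | of b =>
      change lin φ (MonoidAlgebra.mapDomainRingHom ℤ u (o a) * MonoidAlgebra.mapDomainRingHom ℤ v (o b)) =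
        lin f (o a) * lin g (o b)
      rw [mapDomain_o, mapDomain_o, ← o_mul, lin_o, lin_o, lin_o, h]
    | add y y' hy hy' => rw [map_add, mul_add, map_add, map_add, hy, hy', mul_add]
    | smul r y hy => rw [map_zsmul, mul_smul_comm, map_zsmul, map_zsmul, hy, mul_smul_comm]
  | add x x' hx hx' => rw [map_add, add_mul, map_add, map_add, hx, hx', add_mul]
  | smul r x hx => rw [map_zsmul, smul_mul_assoc, map_zsmul, map_zsmul, hx, smul_mul_assoc]

theorem dSum_prod (u : G₁ →* G) (v : G₂ →* G) (φ : G → ℤ) (f : G₁ → ℤ) (g : G₂ → ℤ)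
    (h : ∀ a b, φ (u a * v b) = f a * g b) {i j : ℕ} (a : Fin i → G₁) (b : Fin j → G₂) :
    dSum φ (Fin.append (fun l => u (a l)) (fun l => v (b l))) = dSum f a * dSum g b := by
  rw [← lin_prod, ← lin_prod, ← lin_prod, Fin.prod_univ_add, ← lin_mul u v φ f g h, map_prod, map_prod]
  simp only [Fin.append_left, Fin.append_right, map_sub, map_one, mapDomain_o]

end Alg

section Pull

variable {X Y : Scheme.{u}} (f : X ⟶ Y)

/-- pullback on isomorphism classes -/
noncomputable def mcPull : MC Y → MC X :=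
  Quot.map (fun L => (Scheme.Modules.pullback f).obj L) fun _ _ ⟨e⟩ => ⟨(Scheme.Modules.pullback f).mapIso e⟩

theorem mcPull_mc (L : Y.Modules) : mcPull f (mc L) = mc ((Scheme.Modules.pullback f).obj L) := rfl

/-- pullback on classes of invertible modules -/
noncomputable def pull : InvCl Y →* InvCl X where
  toFun c := ⟨mcPull f c.1, by
    obtain ⟨c, L, hL, rfl⟩ := c
    exact ⟨_, CycB.C1Pull.isInvertible_pullback f hL, rfl⟩⟩
  map_one' := by
    obtain ⟨e⟩ := Ega3B.PullTensor.nonempty_pullUnitIso f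
    exact Subtype.ext (mc_eq e)
  map_mul' := by
    rintro ⟨_, L, hL, rfl⟩ ⟨_, M, hM, rfl⟩
    exact Subtype.ext (mc_eq (Ega3B.PullTensor.pullTensorIso f hL hM))

theorem pull_ic {L : Y.Modules} (hL : PicF.IsInvertible L) :
    pull f (NumInt.ic Y hL) = NumInt.ic X (CycB.C1Pull.isInvertible_pullback f hL) := rfl

end Pull

variable {k : Type u} [Field k] {X Y : Scheme.{u}} [X.Over (Spec (CommRingCat.of k))]
  [Y.Over (Spec (CommRingCat.of k))] [IsProper (X ↘ Spec (CommRingCat.of k))]
  [IsProper (Y ↘ Spec (CommRingCat.of k))]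

/-- intersection numbers of exterior type on a product -/
theorem intNum_append (dX dY : ℕ) (hX : topologicalKrullDim X ≤ dX) (hY : topologicalKrullDim Y ≤ dY)
    {i j : ℕ} (M : Fin i → X.Modules) (hM : ∀ l, PicF.IsInvertible (M l)) (N : Fin j → Y.Modules)
    (hN : ∀ l, PicF.IsInvertible (N l)) :
    letI : (pullback (X ↘ (Spec (CommRingCat.of k))) (Y ↘ (Spec (CommRingCat.of k)))).Over (Spec (CommRingCat.of k)) :=
      ⟨pullback.fst (X ↘ (Spec (CommRingCat.of k))) (Y ↘ (Spec (CommRingCat.of k))) ≫ (X ↘ (Spec (CommRingCat.of k)))⟩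
    FGA.intNum k (pullback (X ↘ (Spec (CommRingCat.of k))) (Y ↘ (Spec (CommRingCat.of k)))) (dX + dY)
      (Fin.append
        (fun l => (Scheme.Modules.pullback (pullback.fst (X ↘ (Spec (CommRingCat.of k))) (Y ↘ (Spec (CommRingCat.of k))))).obj (M l))
        (fun l => (Scheme.Modules.pullback (pullback.snd (X ↘ (Spec (CommRingCat.of k))) (Y ↘ (Spec (CommRingCat.of k))))).obj (N l)))
      (Coh.structureModule _) =
      FGA.intNum k X dX M (Coh.structureModule X) * FGA.intNum k Y dY N (Coh.structureModule Y) := by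
  let iO : (pullback (X ↘ (Spec (CommRingCat.of k))) (Y ↘ (Spec (CommRingCat.of k)))).Over (Spec (CommRingCat.of k)) :=
      ⟨pullback.fst (X ↘ (Spec (CommRingCat.of k))) (Y ↘ (Spec (CommRingCat.of k))) ≫ (X ↘ (Spec (CommRingCat.of k)))⟩
  set p := pullback.fst (X ↘ (Spec (CommRingCat.of k))) (Y ↘ (Spec (CommRingCat.of k)))
  set q := pullback.snd (X ↘ (Spec (CommRingCat.of k))) (Y ↘ (Spec (CommRingCat.of k)))
  have h := dSum_prod (pull p) (pull q)
    (NumInt.phi k (pullback (X ↘ (Spec (CommRingCat.of k))) (Y ↘ (Spec (CommRingCat.of k)))) (dX + dY) (Coh.structureModule _))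
    (NumInt.phi k X dX (Coh.structureModule X)) (NumInt.phi k Y dY (Coh.structureModule Y)) (by
      rintro ⟨_, L, hL, rfl⟩ ⟨_, L', hL', rfl⟩
      have h1 := KunChi.chi_kunneth (k := k) dX dY hX hY (CycB.DegCurve.isCoh_of_isInvertible hL)
        (CycB.DegCurve.isCoh_of_isInvertible hL')
      refine (euler_iso k _ (Ega2.Tens.runit _) (dX + dY)).trans (h1.trans ?_)
      exact congrArg₂ (· * ·) (euler_iso k X (Ega2.Tens.runit L) dX).symm
        (euler_iso k Y (Ega2.Tens.runit L') dY).symm)
    (fun l => NumInt.ic X (hM l)) (fun l => NumInt.ic Y (hN l))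
  rw [NumInt.intNum_eq_phi k dX M hM, NumInt.intNum_eq_phi k dY N hN, ← h,
    NumInt.intNum_eq_phi k (dX + dY) _ (fun l => ?_)]
  · congr 1
    funext l
    refine Fin.addCases (fun l => ?_) (fun l => ?_) l
    · exact Subtype.ext ((congrArg mc (Fin.append_left _ _ l)).trans
        (congrArg Subtype.val (Fin.append_left (fun l => pull p (NumInt.ic X (hM l)))
          (fun l => pull q (NumInt.ic Y (hN l))) l)).symm)
    · exact Subtype.ext ((congrArg mc (Fin.append_right _ _ l)).trans
        (congrArg Subtype.val (Fin.append_right (fun l => pull p (NumInt.ic X (hM l)))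
          (fun l => pull q (NumInt.ic Y (hN l))) l)).symm)
  · refine Fin.addCases (fun l => ?_) (fun l => ?_) l
    · rw [Fin.append_left]; exact CycB.C1Pull.isInvertible_pullback _ (hM l)
    · rw [Fin.append_right]; exact CycB.C1Pull.isInvertible_pullback _ (hN l)

end K711.ProdNum
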